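import Cfsg.Agent.Lib.A8L.KM
import Cfsg.Agent.Lib.X32.Gen
import Cfsg.Agent.Lib.Comp.YK.Main
import Cfsg.Agent.Lib.Comp.Subst3

/-!
# The `3`-local configuration of `A₈` and the subgroup it generates
-/

set_option maxRecDepth 100000
set_option synthInstance.maxSize 100000
set_option synthInstance.maxHeartbeats 200000
set_option Elab.async false

namespace Cfsg.Lib.A8L

open Cfsg.Lib.X32 Cfsg.Lib.Comp

universe u

local notation "⟪" n "⟫" => HA.el n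
local notation "⟬" n "⟭" => KM.el n

namespace KM

/-- Membership in a list of indices. -/
def inL (l : List ℕ) (a : KM) : Prop := ix a ∈ l

instance (l : List ℕ) : DecidablePred (inL l) := fun _ => inferInstanceAs (Decidable (_ ∈ _))

/-- The generators. -/
def gn (x : ℕ) : KM := el (Nat.mod (Nat.shiftRight 0xd00c0b401800f07803c000 (Nat.mul 12 x)) 4096)

/-- The Sylow `3`-subgroup. -/
abbrev D : Subgroup KM := sg (inL [0, 15, 24, 60, 75, 84, 120, 135, 144]) (by decide +kernel)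

end KM

variable {G : Type u} [Group G] {κ : KM →* G} {u : G}

/-- The configuration. -/
structure Cf (κ : KM →* G) (u : G) : Prop where
  inj : Function.Injective κ
  nz : ∀ g, g * κ ⟬60⟭ * g⁻¹ = κ ⟬60⟭ ∨ g * κ ⟬60⟭ * g⁻¹ = κ ⟬120⟭ → ∃ k, κ k = g
  uu : u * u = 1
  uz : Cj κ u ⟬60⟭ ⟬15⟭
  ua : Cj κ u ⟬180⟭ ⟬12⟭
  hy : ∀ g, g * κ ⟬75⟭ = κ ⟬75⟭ * g → ∃ d ∈ KM.D, g = κ d ∨ g = κ d * u

/-- The letters. -/
def dl (κ : KM →* G) (u : G) (n : ℕ) : G := if n = 8 then u else κ (KM.gn n)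

theorem ev_dl {w : List ℕ} (h : ∀ x ∈ w, x < 8) : ev (dl κ u) w = κ (ev KM.gn w) := by
  rw [ev_map]; exact ev_congr _ fun x hx => if_neg (h x hx).ne

/-- Words for the generators of the centraliser. -/
def VA : List (List ℕ) := [[], [2, 4, 5, 7, 3, 8, 7, 4, 6, 7, 8, 7], [7, 4, 8, 7, 4, 5, 7, 3, 8, 7, 4, 6],
  [5, 7, 3, 8, 7, 4, 6, 7, 4, 8, 7, 4], [1, 3, 7, 4, 8, 7, 4, 5, 7, 8, 7, 6], [1, 3, 7, 3, 5, 8, 7, 4, 5, 7, 8, 7, 4, 6],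
  [2, 4, 5, 7, 4, 5, 8, 7, 4, 6, 7, 8, 7, 4], [2, 4, 7, 3, 8, 7, 3, 5, 7, 8, 7, 6], [5, 7, 4, 8, 7, 3, 6, 7, 3, 8, 7, 3],
  [1, 3], [2, 4], [5, 7, 3, 8, 7, 4, 5, 7, 3, 8, 7, 3, 5, 7, 4, 8, 7, 3, 6, 7, 8, 7]]

/-- Check of an identity of words. -/
noncomputable def ck (v w : List ℕ) : Bool :=
  subB v YK.L && subB w YK.L && relsB 10 4 YK.nets [(invA YK.iv v w, 0)]

namespace Cf

variable (h : Cf κ u)
include h

theorem ui : u⁻¹ = u := inv_eq_of_mul_eq_one_right h.uu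

theorem cen {g : G} (e : g * κ ⟬60⟭ = κ ⟬60⟭ * g) : ∃ k, κ k = g := h.nz g (.inl (mul_inv_eq_iff_eq_mul.2 e))

theorem ivOK : IvOK (dl κ u) YK.iv := ⟨map_one κ, fun x hx => by
  obtain ⟨h1, ⟨rfl, h2⟩ | ⟨h2, h3, h4⟩⟩ := (by decide +kernel : ∀ x < 64, YK.iv x < 64 ∧ (x = 8 ∧ YK.iv x = 8 ∨
    x ≠ 8 ∧ YK.iv x ≠ 8 ∧ KM.gn (YK.iv x) = (KM.gn x)⁻¹)) x hx
  · exact ⟨h1, h2.symm ▸ h.ui.symm⟩
  · exact ⟨h1, by rw [dl, dl, if_neg h2, if_neg h3, h4, map_inv]⟩⟩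

theorem rels (e : (κ ⟬13⟭ * u) ^ 4 = 1) : Rels (dl κ u) YK.R := fun r hr => by
  rcases (by decide +kernel : ∀ r ∈ YK.R, ((∀ x ∈ r.1, x < 8) ∧ ev KM.gn r.1 ^ (r.2 + 1) = 1) ∨ r = ([8], 1) ∨
    r = ([8, 1, 8, 4], 0) ∨ r = ([8, 5, 8, 6], 0) ∨ r = ([7, 8], 3)) r hr with e | rfl | rfl | rfl | rfl
  · rw [ev_dl e.1, ← map_pow, e.2, map_one]
  · exact (by simpa [pow_succ] using h.uu : (u * 1) ^ (1 + 1) = 1)
  · have : κ ⟬24⟭ = (κ ⟬15⟭)⁻¹ := by rw [← map_inv]; rfl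
    show (u * (κ ⟬60⟭ * (u * (κ ⟬24⟭ * 1)))) ^ (0 + 1) = 1
    rw [this, ← h.uz]; nth_rewrite 2 [← h.ui]; group
  · have : κ ⟬12⟭ = (κ ⟬12⟭)⁻¹ := by rw [← map_inv]; rfl
    show (u * (κ ⟬180⟭ * (u * (κ ⟬12⟭ * 1)))) ^ (0 + 1) = 1
    rw [this, ← h.ua]; nth_rewrite 2 [← h.ui]; group
  · exact (by simpa using e : (κ ⟬13⟭ * (u * 1)) ^ (3 + 1) = 1)

theorem eqw (e : (κ ⟬13⟭ * u) ^ 4 = 1) {v w : List ℕ} (c : ck v w = true) : ev (dl κ u) v = ev (dl κ u) w := by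
  simp only [ck, Bool.and_eq_true] at c
  have hL : ∀ x ∈ YK.L, x < 64 ∧ YK.iv x ∈ YK.L := by decide +kernel
  have := cons_of_ord YK.ord YK.nets_iv YK.nets_rel YK.lb (rels_of_relsB YK.nets_ok (by norm_num) c.2) (fun r hr x hx => by
    rw [List.mem_singleton.1 hr, invA_eq, List.mem_append, List.mem_reverse, List.mem_map] at hx
    rcases hx with ⟨y, hy, rfl⟩ | hx
    exacts [(hL y (sub_of_subB c.1.1 y hy)).2, sub_of_subB c.1.2 x hx]) G _ h.ivOK (h.rels e) _ (List.mem_singleton_self _)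
  rwa [ev_invA h.ivOK fun x hx => (hL x (sub_of_subB c.1.1 x hx)).1, zero_add, pow_one, inv_mul_eq_one] at this

theorem emb (e : (κ ⟬13⟭ * u) ^ 4 = 1) : ∃ φ : HA →* G, φ ⟪16⟫ = u ∧ φ ⟪64⟫ = κ ⟬75⟭ ∧ Fz φ ⟪16⟫ ⟪5⟫ ∧ Fz φ ⟪16⟫ ⟪11⟫ ∧
    Fz φ ⟪16⟫ ⟪32⟫ ∧ ∃ g, φ ⟪48⟫ = g * κ ⟬13⟭ * g⁻¹ ∧ φ ⟪14⟫ = g * κ ⟬30⟭ * g⁻¹ ∧ φ ⟪53⟫ = g * u * κ ⟬13⟭ * (g * u)⁻¹ ∧
      φ ⟪30⟫ = g * u * κ ⟬30⟭ * (g * u)⁻¹ := by
  obtain ⟨φ, hφ⟩ := hom_of_top (γ := HA.gn) (δ := sv (dl κ u) VA) XA.ord (by unfold IvOK; decide +kernel)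
    (by unfold Rels; decide +kernel) ⟨rfl, fun x hx => by
      have c := (by decide +kernel : ∀ x < 64, XA.iv x < 64 ∧ ck (xpd VA [XA.iv x, x]) [] = true) x hx
      have := h.eqw e c.2
      rw [ev_xpd, ev_cons, ev_single] at this
      exact ⟨c.1, eq_inv_of_mul_eq_one_left this⟩⟩
    (fun r hr => by
      rw [← ev_pw, ← ev_xpd]
      exact h.eqw e ((by decide +kernel : ∀ r ∈ XA.R, ck (xpd VA (pw r.1 r.2)) [] = true) r hr))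
    HA.card (by decide +kernel) fun p => ⟨_, HA.evc_wd p⟩
  have k : ∀ {p : HA} (w : List ℕ), (ev HA.gn w = p ∧ ∀ x ∈ w, x ∈ XA.L) → φ p = ev (dl κ u) (xpd VA w) := fun w c => by
    rw [ev_xpd, ← c.1]; exact map_ev_of_gen fun x hx => hφ x (c.2 x hx)
  have cj : ∀ {p : HA} (w g v : List ℕ), (ev HA.gn w = p ∧ ∀ x ∈ w, x ∈ XA.L) → ck (xpd VA w ++ g) (g ++ v) = true →
      φ p = ev (dl κ u) g * ev (dl κ u) v * (ev (dl κ u) g)⁻¹ := fun w g v c d => by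
    rw [k w c, eq_mul_inv_iff_mul_eq, ← ev_append, ← ev_append, h.eqw e d]
  have z : φ ⟪16⟫ = u := by
    have c : ∀ x ∈ [1, 3, 5, 6, 7], u * φ ⟪16⟫ * κ (KM.gn x) = κ (KM.gn x) * (u * φ ⟪16⟫) := fun x hx => by
      have c := (by decide +kernel : ∀ x ∈ [1, 3, 5, 6, 7], x ≠ 8 ∧
        ck (8 :: xpd VA [1, 1] ++ [x]) (x :: 8 :: xpd VA [1, 1]) = true) x hx
      have := h.eqw e c.2
      rwa [ev_append, ev_cons, ev_single, ev_cons, ev_cons, ← k [1, 1] (p := ⟪16⟫) (by decide +kernel), dl,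
        dl, if_pos rfl, if_neg c.1] at this
    obtain ⟨a, ha⟩ := h.cen (c 1 (by decide))
    rw [← ha] at c
    rw [(by decide +kernel : ∀ a, (∀ x ∈ [1, 3, 5, 6, 7], a * KM.gn x = KM.gn x * a) → a = 1) a
      fun x hx => h.inj (by rw [map_mul, map_mul, c x hx]), map_one, eq_comm, mul_eq_one_iff_inv_eq, h.ui] at ha
    exact ha.symm
  have fz : ∀ {p : HA} (w g : List ℕ), (ev HA.gn w = p ∧ ∀ x ∈ w, x ∈ XA.L) → ck (xpd VA w ++ g) (g ++ 8 :: 8 :: xpd VA [1, 1]) = true →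
      Fz φ ⟪16⟫ p := fun w g c d => isConj_iff.2 ⟨ev (dl κ u) g, by
    rw [cj w g _ c d, ev_cons, ev_cons, ← k [1, 1] (p := ⟪16⟫) (by decide +kernel), ← mul_assoc (dl κ u 8),
      show dl κ u 8 = u from rfl, h.uu, one_mul]⟩
  have f1 : ev (dl κ u) [4, 7, 3] = κ ⟬30⟭ := (ev_dl (by decide)).trans (congrArg κ (by decide +kernel))
  refine ⟨φ, z, (k [9] (by decide +kernel)).trans ((ev_dl (by decide +kernel)).trans (congrArg κ (by decide +kernel))),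
    fz [1, 5] [5, 7, 4, 8, 7, 3, 5, 7] (by decide +kernel) (by decide +kernel),
    fz [1, 3, 7] [1, 7, 4, 8, 7, 3, 5, 7] (by decide +kernel) (by decide +kernel),
    fz [11] [1, 5] (by decide +kernel) (by decide +kernel), ev (dl κ u) [2, 7, 4, 5, 7, 8, 7, 5], ?_, ?_, ?_, ?_⟩
  · exact (cj [11, 1, 1] [2, 7, 4, 5, 7, 8, 7, 5] [7] (by decide +kernel) (by decide +kernel)).trans (by rw [ev_single]; rfl)
  · exact (cj [3, 5, 7] [2, 7, 4, 5, 7, 8, 7, 5] [4, 7, 3] (by decide +kernel) (by decide +kernel)).trans (by rw [f1])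
  · exact (cj [11, 1, 1, 1, 5] ([2, 7, 4, 5, 7, 8, 7, 5] ++ [8]) [7] (by decide +kernel) (by decide +kernel)).trans
      (by rw [ev_append, ev_single, ev_single]; rfl)
  · exact (cj [1, 1, 3, 5, 7] ([2, 7, 4, 5, 7, 8, 7, 5] ++ [8]) [4, 7, 3] (by decide +kernel) (by decide +kernel)).trans
      (by rw [ev_append, ev_single, f1]; rfl)

end Cf

end Cfsg.Lib.A8L
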