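import Cfsg.Agent.S3331
import Cfsg.Agent.Lib.Linear.Card
import Cfsg.Agent.Lib.JR.A60
import Cfsg.Agent.Lib.Core.Nilpotent

/-!
# Self-centralising elements of order three modulo a central `2`-subgroup
-/

set_option synthInstance.maxSize 1000

namespace Cfsg.Lib.A8L

open Subgroup Cfsg.Lib.JR

variable {G : Type*} [Group G] [Finite G]

theorem ft3g {L Z : Subgroup G} {c : G} (hZ : IsPGroup 2 Z) (ZL : Z ≤ L) (Zc : ∀ z ∈ Z, ∀ g ∈ L, g * z = z * g)
    (c3 : c * c * c = 1) (c1 : c ≠ 1) (cL : c ∈ L) (hc : ∀ g ∈ L, g * c = c * g → ∃ k : ℤ, g * c ^ k ∈ Z) :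
    (∃ P ≤ L, ∃ W ≤ L, IsPGroup 2 P ∧ (Nat.card W).Coprime 2 ∧ (Nat.card W).Coprime 3 ∧ P ≤ centralizer W ∧
      normalizer (L : Set G) ≤ normalizer (P : Set G) ∧ normalizer (L : Set G) ≤ normalizer (W : Set G) ∧ Z ≤ P ∧
      Nat.card L ≤ 6 * Nat.card (P ⊔ W : Subgroup G) ∧ ∀ x ∈ L, ∀ y ∈ L, (x * y * x⁻¹ * y⁻¹) ^ 4 = 1 → x * y * x⁻¹ * y⁻¹ ∈ P) ∨
    (∃ π : L →* A60, IsPGroup 2 π.ker ∧ Function.Surjective π) ∨ Nat.card L = Nat.card Z * 168 := by
  have : Fact (Nat.Prime 2) := ⟨Nat.prime_two⟩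
  let c' : L := ⟨c, cL⟩
  have c3' : c' ^ 3 = 1 := Subtype.ext (by simpa [pow_succ] using c3)
  let Y := Z.subgroupOf L
  have Yc : Y ≤ center L := fun z hz => mem_center_iff.2 fun g => Subtype.ext (Zc z hz g g.2)
  have : Y.Normal := ⟨fun n hn g => by rwa [mem_center_iff.1 (Yc hn) g, mul_inv_cancel_right]⟩
  have hY : IsPGroup 2 Y := hZ.comap_subtype
  obtain ⟨j, hj⟩ := IsPGroup.iff_card.1 hY
  let π := QuotientGroup.mk' Y
  have hπ : ∀ {g}, π g = 1 ↔ g ∈ Y := QuotientGroup.eq_one_iff _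
  have Z3 : ∀ g ∈ Y, g ^ 3 = 1 → g = 1 := fun g hg e => orderOf_eq_one_iff.1 (Nat.eq_one_of_dvd_coprimes (a := 2 ^ j) (b := 3) (Nat.Coprime.pow_left _ (by decide))
    ((orderOf_dvd_natCard _ hg).trans hj.dvd) (orderOf_dvd_of_pow_eq_one e))
  have o3 : orderOf c' = 3 := orderOf_eq_prime c3' fun e => c1 (congrArg Subtype.val e)
  rcases Agent.S3331.result (zpowers (π c')) (by
      rw [Nat.card_zpowers]
      exact orderOf_eq_prime (by rw [← map_pow, c3', map_one]) fun e => c1 (congrArg Subtype.val (Z3 _ (hπ.1 e) c3')))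
    (le_antisymm (fun g hg => by
      obtain ⟨g, rfl⟩ := QuotientGroup.mk'_surjective Y g
      have m : g * c' * g⁻¹ * c'⁻¹ ∈ Y := hπ.1 (by
        simp only [map_mul, map_inv]; rw [← show π c' * π g = _ from hg _ (mem_zpowers _)]; group)
      have e := Z3 _ m (by
        have e : (g * c' * g⁻¹ * c'⁻¹ * c') ^ 3 = 1 := by rw [inv_mul_cancel_right, conj_pow, c3']; simp
        rwa [(show Commute _ c' from (mem_center_iff.1 (Yc m) c').symm).mul_pow, c3', mul_one] at e)
      rw [mul_inv_eq_one, mul_inv_eq_iff_eq_mul] at e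
      obtain ⟨k, hk⟩ := hc g g.2 (congrArg Subtype.val e)
      have := hπ.2 (show g * c' ^ k ∈ Y from hk)
      rw [map_mul, map_zpow, mul_eq_one_iff_eq_inv] at this
      exact this ▸ inv_mem (zpow_mem (mem_zpowers _) k))
      (le_centralizer _)) with ⟨N, hN, nil, cop, h⟩ | ⟨N, hN, -, h2, ⟨e⟩⟩ | ⟨⟨e⟩⟩
  · left
    obtain ⟨f, hf⟩ : ∃ f : (L ⧸ Y) ⧸ N →* Equiv.Perm (Fin 3), Function.Injective f := by
      rcases h with h | ⟨⟨e⟩⟩
      · exact ⟨(alternatingGroup (Fin 3)).subtype.comp (mulEquivOfPrimeCardEq h (by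
          rw [Nat.card_eq_fintype_card]; decide)).toMonoidHom, Subtype.val_injective.comp (MulEquiv.injective _)⟩
      · exact ⟨e, e.injective⟩
    let F := f.comp ((QuotientGroup.mk' N).comp π)
    have hF : F.ker = N.comap π := by
      ext g; exact (map_eq_one_iff f hf).trans (QuotientGroup.eq_one_iff _)
    have YN : Y ≤ N.comap π := fun g hg => by simp [mem_comap, hπ.2 hg]
    have cO : (Nat.card (N.comap π)).Coprime 3 := by
      rw [← Core.card_mul_relIndex YN, ((congrArg (relIndex · _) (QuotientGroup.ker_mk' Y)).symm.trans (relIndex_ker _ π) :),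
        map_comap_eq_self_of_surjective (QuotientGroup.mk'_surjective Y), hj]
      exact Nat.Coprime.mul_left (Nat.Coprime.pow_left _ (by decide)) cop
    have sq : ∀ g ∈ pPrimeCore 3 L, F g * F g = 1 := fun g hg => by
      rw [← pow_two]
      refine orderOf_dvd_iff_pow_eq_one.1 (Nat.Coprime.dvd_of_dvd_mul_right (n := 3) (Nat.Coprime.coprime_dvd_left
        ((orderOf_map_dvd F g).trans (orderOf_dvd_natCard _ hg)) (Core.coprime_card_pPrimeCore 3 L)) ?_)
      exact orderOf_dvd_of_pow_eq_one ((by decide +kernel : ∀ s : Equiv.Perm (Fin 3), s ^ (2 * 3) = 1) _)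
    have eO : pPrimeCore 3 L = N.comap π := le_antisymm (fun g hg => hF.le ((by decide +kernel :
        ∀ g c : Equiv.Perm (Fin 3), c ^ 3 = 1 → c ≠ 1 → g * g = 1 → g * (c * g⁻¹ * c⁻¹) * (g * (c * g⁻¹ * c⁻¹)) = 1 → g = 1)
        _ (F c') (by rw [← map_pow, c3', map_one])
        (fun e => absurd (Nat.Coprime.coprime_dvd_left (o3 ▸ orderOf_dvd_natCard _ (hF.le e)) cO) (by decide)) (sq g hg)
        (by simpa only [map_mul, map_inv] using sq _ (mul_mem hg ((inferInstance : (pPrimeCore 3 L).Normal).conj_mem _ (inv_mem hg) c')))))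
      (Core.le_pPrimeCore cO)
    have ce := card_map_of_injective (K := N.comap π) L.subtype_injective
    have : Group.IsNilpotent (N.comap π) := Subgroup.isNilpotent_of_ker_le_center (π.subgroupComap N) fun g hg =>
      mem_center_iff.2 fun k => Subtype.ext (mem_center_iff.1 (Yc (hπ.1 (congrArg Subtype.val hg))) k)
    have := Group.nilpotent_of_mulEquiv ((N.comap π).equivMapOfInjective _ L.subtype_injective)
    have nO : normalizer (L : Set G) ≤ normalizer ((N.comap π).map L.subtype : Subgroup G) :=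
      eO ▸ Core.normalizer_le_normalizer_pPrimeCoreOf L
    have OL := map_subtype_le (N.comap π)
    have cm : ∀ x ∈ L, ∀ y ∈ L, (x * y * x⁻¹ * y⁻¹) ^ 4 = 1 → x * y * x⁻¹ * y⁻¹ ∈ (N.comap π).map L.subtype :=
      fun x hx y hy e => ⟨⟨x, hx⟩ * ⟨y, hy⟩ * ⟨x, hx⟩⁻¹ * ⟨y, hy⟩⁻¹, hF.le (by
        have := congrArg F (show (⟨x, hx⟩ * ⟨y, hy⟩ * ⟨x, hx⟩⁻¹ * ⟨y, hy⟩⁻¹ : L) ^ 4 = 1 from Subtype.ext e)
        simp only [map_mul, map_inv, map_pow, map_one, MonoidHom.mem_ker] at this ⊢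
        exact (by decide +kernel : ∀ x y : Equiv.Perm (Fin 3), (x * y * x⁻¹ * y⁻¹) ^ 4 = 1 → x * y * x⁻¹ * y⁻¹ = 1) _ _ this), rfl⟩
    have ZO : Z ≤ (N.comap π).map L.subtype := fun z hz => ⟨⟨z, ZL hz⟩, YN hz, rfl⟩
    have cl : Nat.card L ≤ 6 * Nat.card ((N.comap π).map L.subtype) := by
      rw [ce, ← hF, ← card_mul_index F.ker, index_ker, mul_comm]
      exact Nat.mul_le_mul_right _ ((card_le_card_group _).trans (by rw [Nat.card_eq_fintype_card]; decide))
    rw [← ce] at cO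
    generalize (N.comap π).map L.subtype = O at *
    have hP : IsPGroup 2 ((pCore 2 O).map O.subtype) := (Core.isPGroup_pCore 2 O).map _
    have hW := Core.coprime_card_pPrimeCoreOf (p := 2) O
    refine ⟨_, (map_subtype_le _).trans OL, _, (map_subtype_le _).trans OL, hP, hW,
      cO.coprime_dvd_left (card_dvd_of_le (map_subtype_le _)), ?_, nO.trans (Core.normalizer_le_normalizer_pCoreOf O),
      nO.trans (Core.normalizer_le_normalizer_pPrimeCoreOf O), Core.le_pCoreOf_of_nilpotent hZ ZO,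
      (Core.pCoreOf_sup_pPrimeCoreOf_of_nilpotent Nat.prime_two O).symm ▸ cl, fun x hx y hy e =>
        Core.le_pCoreOf_of_nilpotent (IsPGroup.of_card_dvd_pow (n := 2) (by
          rw [Nat.card_zpowers]; exact orderOf_dvd_of_pow_eq_one e)) (zpowers_le.2 (cm x hx y hy e)) (mem_zpowers _)⟩
    obtain ⟨k, hk⟩ := IsPGroup.iff_card.1 hP
    exact Core.le_centralizer_of_coprime_of_le_nilpotent (map_subtype_le _) (map_subtype_le _) (hk ▸ hW.symm.pow_left _)
  · refine .inr (.inl ⟨(e.trans A60.equiv.symm).toMonoidHom.comp ((QuotientGroup.mk' N).comp π), fun g => ⟨j + 1, ?_⟩,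
      (e.trans A60.equiv.symm).surjective.comp ((QuotientGroup.mk'_surjective N).comp (QuotientGroup.mk'_surjective Y))⟩)
    have : π g ∈ N := (QuotientGroup.eq_one_iff _).1 ((map_eq_one_iff _ (e.trans A60.equiv.symm).injective).1 g.2)
    have := orderOf_dvd_natCard _ (hπ.1 ((map_pow π g.1 2).trans (h2 _ this)))
    rw [hj, orderOf_dvd_iff_pow_eq_one, ← pow_mul, ← pow_succ'] at this
    exact Subtype.ext this
  · have : Fact (Nat.Prime 7) := ⟨by norm_num⟩
    have := Linear.card_PSL_two (F := ZMod 7)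
    rw [Nat.card_zmod, ← Nat.card_congr e.toEquiv, ← index_eq_card] at this
    refine .inr (.inr ?_)
    rw [← card_mul_index Y, Core.card_subgroupOf_of_le ZL, show Y.index = 168 by norm_num at this; omega]

end Cfsg.Lib.A8L
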