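import Cfsg.Agent.Lib.A8L.Main

/-!
# Setting up the configuration
-/

set_option maxRecDepth 100000
set_option synthInstance.maxSize 100000
set_option synthInstance.maxHeartbeats 200000
set_option Elab.async false

namespace Cfsg.Lib.A8L

open Subgroup Cfsg.Lib.X32 Cfsg.Lib.Transfer Equiv

universe u

local notation "⟬" n "⟭" => KM.el n

variable {G : Type u} [Group G] [Finite G]

theorem exists_u {κ : KM →* G} (hi : Function.Injective κ)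
    (nz : ∀ g, g * κ ⟬60⟭ * g⁻¹ = κ ⟬60⟭ ∨ g * κ ⟬60⟭ * g⁻¹ = κ ⟬120⟭ → ∃ k, κ k = g)
    (π : normalizer (KM.D.map κ : Set G) →* DihedralGroup 4) (sπ : Function.Surjective π) (hπ : ∀ g, π g = 1 ↔ g.1 ∈ KM.D.map κ) :
    ∃ u, u * u = 1 ∧ Cj κ u ⟬60⟭ ⟬15⟭ ∧ Cj κ u ⟬180⟭ ⟬12⟭ ∧ ∀ g ∈ normalizer (KM.D.map κ : Set G),
      ∃ d ∈ KM.D, ∃ v ∈ [1, ⟬180⟭, ⟬12⟭, ⟬180⟭ * ⟬12⟭], g = κ (d * v) ∨ g = κ (d * v) * u := by
  have mN : ∀ k, (∀ p ∈ KM.D, k * p * k⁻¹ ∈ KM.D) → κ k ∈ normalizer (KM.D.map κ : Set G) := fun k c =>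
    nrm fun p hp => ⟨_, c p hp, .of k p⟩
  let a : normalizer (KM.D.map κ : Set G) := ⟨_, mN ⟬180⟭ (by decide +kernel)⟩
  let b : normalizer (KM.D.map κ : Set G) := ⟨_, mN ⟬12⟭ (by decide +kernel)⟩
  have o : ∀ {g : normalizer (KM.D.map κ : Set G)} {k}, g.1 = κ k → (π g = 1 ↔ k ∈ KM.D) := fun e => by
    rw [hπ, e, mem_map_iff_mem hi]
  have q : ∀ {g h : normalizer (KM.D.map κ : Set G)}, π g = π h → ∃ d ∈ KM.D, g.1 = κ d * h := fun {g h} e => by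
    obtain ⟨d, hd, e⟩ := (hπ (g * h⁻¹)).1 (by rw [map_mul, map_inv, e, mul_inv_cancel])
    exact ⟨d, hd, e.symm ▸ (inv_mul_cancel_right _ _).symm⟩
  have hV : ∀ g, π g ∈ [1, π a, π b, π a * π b] → ∃ d ∈ KM.D, ∃ v ∈ [1, ⟬180⟭, ⟬12⟭, ⟬180⟭ * ⟬12⟭], g.1 = κ (d * v) := fun g e => by
    simp only [List.mem_cons, List.not_mem_nil, or_false, ← map_mul, ← map_one π] at e
    rcases e with e | e | e | e <;> obtain ⟨d, hd, e⟩ := q e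
    exacts [⟨d, hd, 1, by simp, by simpa using e⟩, ⟨d, hd, ⟬180⟭, by simp, e.trans (map_mul κ _ _).symm⟩,
      ⟨d, hd, ⟬12⟭, by simp, e.trans (map_mul κ _ _).symm⟩, ⟨d, hd, ⟬180⟭ * ⟬12⟭, by simp, by rw [e, map_mul, map_mul]; rfl⟩]
  obtain ⟨r, r1, r2, r3, r4⟩ := (by decide +kernel : ∀ p q : DihedralGroup 4, p * p = 1 → q * q = 1 → p * q = q * p → p ≠ 1 →
      q ≠ 1 → p * q ≠ 1 → ∃ r, r * r = 1 ∧ r ∉ [1, p, q, p * q] ∧ (∀ x, x ∈ [1, p, q, p * q] ∨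
        (x * r ∈ [1, p, q, p * q] ∧ x * (r * (p * q)) ∈ [1, p, q, p * q])) ∧
        (r * p * r⁻¹ = p ∨ r * q * r⁻¹ = q ∨ (r * p * r⁻¹ = q ∧ r * (p * q) * r⁻¹ = p * q))) (π a) (π b)
    (by rw [← map_mul, o (map_mul κ _ _).symm]; decide +kernel) (by rw [← map_mul, o (map_mul κ _ _).symm]; decide +kernel)
    (by rw [← map_mul, ← map_mul]; exact congrArg π (Subtype.ext ((map_mul κ _ _).symm.trans
      ((congrArg κ (by decide +kernel)).trans (map_mul κ _ _)))))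
    (by rw [Ne, o rfl]; decide +kernel) (by rw [Ne, o rfl]; decide +kernel) (by rw [← map_mul, Ne, o (map_mul κ _ _).symm]; decide +kernel)
  obtain ⟨ρ, rfl⟩ := sπ r
  obtain ⟨e, e1, e2⟩ := ncj ρ.2 (p := ⟬60⟭) (by decide +kernel)
  have e3 : e ≠ 1 := fun c => absurd ((c ▸ e2).symm.uniq hi .one) (by decide +kernel)
  have nK : ¬ (e = ⟬60⟭ ∨ e = ⟬120⟭) := fun c => by
    obtain ⟨k, hk⟩ := nz ρ (c.imp (e2.cast rfl) (e2.cast rfl))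
    obtain ⟨p, p1, p2⟩ := ncj ρ.2 (p := ⟬15⟭) (by decide +kernel)
    obtain ⟨v, hv, c⟩ := (by decide +kernel : ∀ k, k * ⟬15⟭ * k⁻¹ ∈ KM.D → ∃ v ∈ [1, ⟬180⟭, ⟬12⟭, ⟬180⟭ * ⟬12⟭], k * v ∈ KM.D) k
      ((hk ▸ p2).uniq hi (.of k _) ▸ p1)
    simp only [List.mem_cons, List.not_mem_nil, or_false] at hv r2
    have f : ∀ x y : DihedralGroup 4, x * y = 1 → y * y = 1 → x = y := by decide +kernel
    rcases hv with rfl | rfl | rfl | rfl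
    · exact r2 (.inl ((o hk.symm).2 (mul_one k ▸ c)))
    · exact r2 (.inr (.inl (f _ _ (by rw [← map_mul, o (k := k * ⟬180⟭) (by rw [map_mul, hk]; rfl)]; exact c)
        (by rw [← map_mul, o (map_mul κ _ _).symm]; decide +kernel))))
    · exact r2 (.inr (.inr (.inl (f _ _ (by rw [← map_mul, o (k := k * ⟬12⟭) (by rw [map_mul, hk]; rfl)]; exact c)
        (by rw [← map_mul, o (map_mul κ _ _).symm]; decide +kernel)))))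
    · exact r2 (.inr (.inr (.inr (f _ _ (by
        rw [← map_mul, ← map_mul, o (k := k * (⟬180⟭ * ⟬12⟭)) (by rw [map_mul, map_mul, hk]; rfl)]; exact c)
        (by rw [← map_mul, ← map_mul, o (k := ⟬180⟭ * ⟬12⟭ * (⟬180⟭ * ⟬12⟭)) (by simp only [map_mul]; rfl)]; decide +kernel)))))
  have cj : ∀ {g h : normalizer (KM.D.map κ : Set G)} {p q : KM}, g.1 = κ p → h.1 = κ q → π ρ * π g * (π ρ)⁻¹ = π h →
      ∃ d ∈ KM.D, Cj κ ρ p (d * q) := fun {g h p q'} e1 e2 e => by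
    rw [← map_inv, ← map_mul, ← map_mul] at e
    obtain ⟨d, hd, e⟩ := q e
    exact ⟨d, hd, by rw [Cj, map_mul, ← e1, ← e2]; exact e⟩
  rcases r4 with c | c | ⟨c, c'⟩
  · obtain ⟨d, hd, c⟩ := cj rfl rfl c
    exact (nK ((by decide +kernel : ∀ d ∈ KM.D, ∀ e ∈ KM.D, e ≠ 1 → d * ⟬180⟭ * e * (d * ⟬180⟭)⁻¹ = e⁻¹ → e = ⟬60⟭ ∨ e = ⟬120⟭)
      d hd e e1 e3 (((c.mul e2).mul c.inv).uniq hi (e2.inv.cast (by decide +kernel) rfl)))).elim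
  · obtain ⟨d, hd, c⟩ := cj rfl rfl c
    exact (nK ((by decide +kernel : ∀ d ∈ KM.D, ∀ e ∈ KM.D, e ≠ 1 → d * ⟬12⟭ * e * (d * ⟬12⟭)⁻¹ = e → e = ⟬60⟭ ∨ e = ⟬120⟭)
      d hd e e1 e3 (((c.mul e2).mul c.inv).uniq hi (e2.cast (by decide +kernel) rfl)))).elim
  obtain ⟨d, hd, c⟩ := cj rfl rfl c
  rw [← map_mul] at c'
  obtain ⟨d', hd', c'⟩ := cj (map_mul κ _ _).symm (map_mul κ _ _).symm c'
  have s1 : Cj κ (κ d' * ρ) (⟬180⟭ * ⟬12⟭) (⟬180⟭ * ⟬12⟭) := (c'.comp (.of d' _)).cast rfl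
    ((by decide +kernel : ∀ d ∈ KM.D, d * (d * (⟬180⟭ * ⟬12⟭)) * d⁻¹ = ⟬180⟭ * ⟬12⟭) d' hd')
  have s2 := c.comp (.of d' _)
  have s3 := e2.comp (.of d' _)
  have s4 := s2.cast rfl ((by decide +kernel : ∀ d ∈ KM.D, ∀ d' ∈ KM.D, d' * (d * ⟬12⟭) * d'⁻¹ * (⟬180⟭ * ⟬12⟭) =
    ⟬180⟭ * ⟬12⟭ * (d' * (d * ⟬12⟭) * d'⁻¹) → d' * (d * ⟬12⟭) * d'⁻¹ = ⟬12⟭) d hd d' hd'
    ((s2.mul s1).uniq hi ((s1.mul s2).cast (by decide +kernel) rfl)))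
  let w : normalizer (KM.D.map κ : Set G) := ⟨κ d', le_normalizer (mem_map_of_mem κ hd')⟩ * ρ
  have w1 : π w = π ρ := by rw [map_mul, (o rfl).2 hd', one_mul]
  have ww : κ d' * ρ * (κ d' * ρ) = 1 := by
    obtain ⟨p, hp, c⟩ := (hπ (w * w)).1 (by rw [map_mul, w1, r1])
    have c : κ p = κ d' * ρ * (κ d' * ρ) := c
    rw [← c, (by decide +kernel : ∀ p ∈ KM.D, p * (⟬180⟭ * ⟬12⟭) * p⁻¹ = ⟬180⟭ * ⟬12⟭ → p = 1) p hp
      ((Cj.of p _).uniq hi (c ▸ s1.comp s1)), map_one]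
  have fin : ∀ x : normalizer (KM.D.map κ : Set G), x.1 * x = 1 → (∀ y, y ∈ [1, π a, π b, π a * π b] ∨
      y * π x ∈ [1, π a, π b, π a * π b]) → ∀ g ∈ normalizer (KM.D.map κ : Set G),
      ∃ d ∈ KM.D, ∃ v ∈ [1, ⟬180⟭, ⟬12⟭, ⟬180⟭ * ⟬12⟭], g = κ (d * v) ∨ g = κ (d * v) * x := fun x xx k g hg => by
    rcases k (π ⟨g, hg⟩) with c | c
    · obtain ⟨d, hd, v, hv, e⟩ := hV _ c
      exact ⟨d, hd, v, hv, .inl e⟩
    · rw [← map_mul π _ x] at c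
      obtain ⟨d, hd, v, hv, e⟩ := hV _ c
      exact ⟨d, hd, v, hv, .inr (by rw [← e]; exact ((mul_assoc _ _ _).trans (by rw [xx, mul_one])).symm)⟩
  rcases (by decide +kernel : ∀ e ∈ KM.D, e ≠ 1 → ∀ d ∈ KM.D, ⟬12⟭ * (d * e * d⁻¹) * ⟬12⟭⁻¹ = (d * e * d⁻¹)⁻¹ →
    d * e * d⁻¹ = ⟬15⟭ ∨ d * e * d⁻¹ = ⟬15⟭⁻¹) e e1 e3 d' hd'
    (((s4.mul s3).mul s4.inv).uniq hi (s3.inv.cast (by decide +kernel) rfl)) with c | c
  · exact ⟨_, ww, s3.cast rfl c, s4, fin w ww fun y => (r3 y).imp_right fun c => w1 ▸ c.1⟩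
  · have ww' : κ d' * ρ * κ (⟬180⟭ * ⟬12⟭) * (κ d' * ρ * κ (⟬180⟭ * ⟬12⟭)) = 1 := by
      rw [mul_assoc, ← mul_assoc (κ _), ← s1.comm, ← mul_assoc, ← mul_assoc, ww, one_mul, ← map_mul, ← map_one κ]
      exact congrArg κ (by decide +kernel)
    refine ⟨_, ww', ((Cj.of _ _).cast rfl (by decide +kernel)).comp (s3.inv.cast rfl (by rw [c, inv_inv])),
      ((Cj.of _ _).cast rfl (by decide +kernel)).comp s4, ?_⟩
    rw [map_mul] at ww' ⊢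
    exact fin (w * (a * b)) ww' fun y => (r3 y).imp_right fun c => by rw [map_mul, map_mul π a, w1]; exact c.2

theorem exists_cf {D : Subgroup G} {y z : G} (hgen : closure {y, z} = D) (hcard : Nat.card D = 9) (y3 : y ^ 3 = 1) (z3 : z ^ 3 = 1)
    (yz : y * z = z * y) (π : normalizer (D : Set G) →* DihedralGroup 4) (sπ : Function.Surjective π)
    (hπ : ∀ g, π g = 1 ↔ g.1 ∈ D) (hy : ∀ g, g * y = y * g → ∀ d ∈ D, g * d * g⁻¹ ∈ D)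
    (eL : normalizer (zpowers z : Set G) ≃* ((Perm.sign.comp (MonoidHom.fst (Perm (Fin 3)) (Perm (Fin 5)))) *
      (Perm.sign.comp (MonoidHom.snd (Perm (Fin 3)) (Perm (Fin 5))))).ker) : ∃ (κ : KM →* G) (u : G), Cf κ u := by
  have nc : ∀ x : G, x ^ 3 = 1 → y ∈ zpowers x → z ∈ zpowers x → False := fun x x3 h1 h2 => by
    have := card_le_of_le (show D ≤ zpowers x from hgen ▸ (closure_le _).2 (by rintro _ (rfl | rfl); exacts [h1, h2]))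
    have := Nat.le_of_dvd three_pos (orderOf_dvd_of_pow_eq_one x3)
    rw [Nat.card_zpowers] at *; omega
  let e := (MonoidHom.ofInjective KM.emb_inj).trans ((MulEquiv.subgroupCongr KM.emb_range).trans eL.symm)
  let κ : KM →* G := (Subgroup.subtype _).comp e.toMonoidHom
  have hi : Function.Injective κ := Subtype.val_injective.comp e.injective
  have hr : ∀ g, g ∈ normalizer (zpowers z : Set G) ↔ ∃ k, κ k = g := fun g =>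
    ⟨fun h => ⟨e.symm ⟨g, h⟩, by simp [κ]⟩, fun ⟨k, h⟩ => h ▸ (e k).2⟩
  have nz : ∀ g, g * z * g⁻¹ ∈ zpowers z → ∃ k, κ k = g := fun g h => (hr g).1 (mem_normalizer_of_cj_le (cj_le_iff.2 (by
    rintro _ ⟨j, rfl⟩
    simpa only [conj_zpow] using zpow_mem h j)))
  clear_value κ
  obtain ⟨a, rfl⟩ := nz z (by simp)
  obtain ⟨b, rfl⟩ := nz y (by simp [yz])
  have zp : ∀ {c x : KM}, c ^ 3 = 1 → κ x ∈ zpowers (κ c) → x = 1 ∨ x = c ∨ x = c⁻¹ := fun c3 h => by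
    have := zp3 (by rw [← map_pow, c3, map_one]) h
    rwa [← map_inv, ← map_one κ, hi.eq_iff, hi.eq_iff, hi.eq_iff] at this
  rw [← map_pow, map_eq_one_iff κ hi] at y3 z3
  have ha := (by decide +kernel : ∀ a : KM, a ≠ 1 → a ^ 3 = 1 → (∀ k ∈ [⟬12⟭, ⟬13⟭, ⟬15⟭], k * a * k⁻¹ = 1 ∨ k * a * k⁻¹ = a ∨
    k * a * k⁻¹ = a⁻¹) → a = ⟬60⟭ ∨ a = ⟬120⟭) a (fun c => nc _ (by rw [← map_pow, y3, map_one]) (mem_zpowers _) (by simp [c])) z3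
    fun k _ => zp z3 (by rw [map_mul, map_mul, map_inv]; exact conj_mem_of_mem_normalizer ((hr _).2 ⟨k, rfl⟩) (mem_zpowers _))
  obtain ⟨k, k1, k2⟩ := (by decide +kernel : ∀ a, a = ⟬60⟭ ∨ a = ⟬120⟭ → ∀ b, b ^ 3 = 1 → b * a = a * b → b ≠ 1 → b ≠ a → b ≠ a⁻¹ →
      ∃ k, (k * a * k⁻¹ = ⟬60⟭ ∨ k * a * k⁻¹ = ⟬60⟭⁻¹) ∧ (k * b * k⁻¹ = ⟬15⟭ ∨ k * b * k⁻¹ = ⟬75⟭)) a ha b y3 (hi (by rw [map_mul, map_mul, yz]))
    (fun c => nc _ (by rw [← map_pow, z3, map_one]) (by simp [c]) (mem_zpowers _))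
    (fun c => nc _ (by rw [← map_pow, z3, map_one]) (by simp [c]) (mem_zpowers _))
    (fun c => nc _ (by rw [← map_pow, z3, map_one]) (by simp [c]) (mem_zpowers _))
  let μ := κ.comp (MulAut.conj k⁻¹).toMonoidHom
  have hμ : Function.Injective μ := hi.comp (MulEquiv.injective _)
  have m1 : κ a = μ (k * a * k⁻¹) := by simp [μ, mul_assoc]
  have m2 : κ b = μ (k * b * k⁻¹) := by simp [μ, mul_assoc]
  have nz' : ∀ g, g * μ ⟬60⟭ * g⁻¹ = μ ⟬60⟭ ∨ g * μ ⟬60⟭ * g⁻¹ = μ ⟬120⟭ → ∃ k, μ k = g := fun g h => by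
    obtain ⟨p, rfl⟩ := nz g (by
      rw [m1, show μ ⟬120⟭ = (μ ⟬60⟭)⁻¹ from map_inv μ ⟬60⟭] at *
      rcases k1 with c | c <;> rw [c] <;> rcases h with h | h <;> simp [h, ← conj_inv (b := g)])
    exact ⟨k * p * k⁻¹, by simp [μ, mul_assoc]⟩
  rw [m1, m2] at hgen
  rw [m2] at hy
  generalize k * b * k⁻¹ = c at *
  generalize k * a * k⁻¹ = c' at *
  clear_value μ
  obtain rfl : D = KM.D.map μ := by
    rw [← hgen, ← Set.image_pair, ← MonoidHom.map_closure]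
    refine congrArg _ (le_antisymm ((closure_le _).2 ?_) fun d hd => ?_)
    · rintro x (rfl | rfl) <;> show x ∈ KM.D
      exacts [by rcases k2 with rfl | rfl <;> decide +kernel, by rcases k1 with rfl | rfl <;> decide +kernel]
    obtain ⟨i, -, j, -, rfl⟩ := (by decide +kernel : ∀ c, c = ⟬15⟭ ∨ c = ⟬75⟭ → ∀ c', c' = ⟬60⟭ ∨ c' = ⟬60⟭⁻¹ → ∀ d ∈ KM.D,
      ∃ i < 3, ∃ j < 3, d = c ^ i * c' ^ j) c k2 c' k1 d hd
    exact mul_mem (pow_mem (subset_closure (by simp)) _) (pow_mem (subset_closure (by simp)) _)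
  obtain ⟨u, u1, u2, u3, u4⟩ := exists_u hμ nz' π sπ hπ
  have ui := inv_eq_of_mul_eq_one_right u1
  have u5 := u2.symm.cast' ui
  have u6 := (u2.mul u5).cast (show _ = ⟬75⟭ by decide +kernel) (show _ = ⟬75⟭ by decide +kernel)
  rcases k2 with rfl | rfl
  · obtain ⟨p, hp, c⟩ := hy _ ((u5.comp ((Cj.of ⟬13⟭ _).cast rfl (by decide +kernel))).comp u2).comm _
      (mem_map_of_mem μ (show ⟬60⟭ ∈ _ by decide +kernel))
    obtain ⟨i, -, j, -, rfl, c'⟩ := (by decide +kernel : ∀ d ∈ KM.D, ∃ i < 3, ∃ j < 3, d = ⟬60⟭ ^ i * ⟬15⟭ ^ j ∧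
      ⟬15⟭ ^ i * ⟬60⟭ ^ j ≠ ⟬13⟭ * ⟬15⟭ * ⟬13⟭⁻¹) p hp
    exact absurd (((Cj.pow' u2 i).mul (Cj.pow' u5 j)).uniq hμ
      ((((Cj.symm (Eq.symm c)).comp u2).comp (.of ⟬13⟭ _)).cast' (Eq.trans (by group) ui))) c'
  refine ⟨μ, u, hμ, nz', u1, u2, u3, fun g hg => ?_⟩
  obtain ⟨d, hd, v, hv, e⟩ := u4 g (mem_normalizer_of_cj_le (cj_le_iff.2 (hy g hg)))
  refine ⟨d * v, (by decide +kernel : ∀ d ∈ KM.D, ∀ v ∈ [1, ⟬180⟭, ⟬12⟭, ⟬180⟭ * ⟬12⟭], d * v * ⟬75⟭ = ⟬75⟭ * (d * v) →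
    d * v ∈ KM.D) d hd v hv (hμ ?_), e⟩
  rw [map_mul, map_mul μ ⟬75⟭]
  rcases e with rfl | rfl
  exacts [hg, mul_right_cancel (b := u) (by rw [mul_assoc, ← u6.comm, ← mul_assoc, hg, mul_assoc])]

end Cfsg.Lib.A8L
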