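import Cfsg.Agent.Lib.X32.Ev
import Cfsg.Agent.Lib.JR.A60

/-!
# Table model of the even part of `S₃ × S₅`
-/

set_option maxRecDepth 100000
set_option Elab.async false

namespace Cfsg.Lib.A8L

open Cfsg.Lib.JR Cfsg.Lib.X32 Equiv

/-- Table model of `A₅ ⋊ S₃`. -/
structure KM : Type where
  /-- The `A₅`-component. -/
  n : A60
  /-- The `S₃`-component. -/
  s : Fin 6

namespace KM

/-- Multiplication in `S₃`. -/
def sm (a b : Fin 6) : Fin 6 :=
  ⟨Nat.mod (Nat.mod (Nat.shiftRight 0x8c7484ec4458dd8428e846c688 (Nat.mul 3 (Nat.add (Nat.mul 6 a.1) b.1))) 8) 6,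
    Nat.mod_lt _ (by norm_num)⟩
/-- Inversion in `S₃`. -/
def si (a : Fin 6) : Fin 6 := ⟨Nat.mod (Nat.mod (Nat.shiftRight 0x543120 (Nat.mul 4 a.1)) 16) 6, Nat.mod_lt _ (by norm_num)⟩
/-- An element of `A₅`. -/
def ea (i : ℕ) : A60 := (⟨Nat.mod i 60, Nat.mod_lt _ (by norm_num)⟩ : Fin 60)
/-- Conjugation by a transposition. -/
def tau (n : A60) : A60 := ea (Nat.mod (Nat.shiftRight
  0xbeeb6caeaa689e6964efae78df6d74cf2c7081f7a38a171d6d96985134975954113cd38c20718b2891050c1080 (Nat.mul 6 n.1)) 64)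
/-- The action. -/
def act (a : Fin 6) (n : A60) : A60 := cond (Nat.ble 3 a.1) (tau n) n
/-- The element with a given index. -/
def el (i : ℕ) : KM := ⟨ea i, ⟨Nat.mod (Nat.div i 60) 6, Nat.mod_lt _ (by norm_num)⟩⟩
/-- The index. -/
def ix (a : KM) : ℕ := Nat.add a.n.1 (Nat.mul 60 a.s.1)

theorem ext' {a b : KM} (h1 : a.n = b.n) (h2 : a.s = b.s) : a = b := by cases a; cases b; congr

instance : DecidableEq KM := fun a b => decidable_of_iff ((Nat.beq a.n.1 b.n.1 && Nat.beq a.s.1 b.s.1) = true)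
  ⟨fun h => by
    rw [Bool.and_eq_true] at h
    exact ext' (Fin.ext (Nat.eq_of_beq_eq_true h.1)) (Fin.ext (Nat.eq_of_beq_eq_true h.2)), fun h => by simp [h]⟩

theorem ex_el (a : KM) : ∃ i < 360, el i = a :=
  ⟨_, (by decide +kernel : ∀ n : A60, ∀ s : Fin 6, ix ⟨n, s⟩ < 360 ∧ el (ix ⟨n, s⟩) = ⟨n, s⟩) a.n a.s⟩

instance (priority := high) (p : KM → Prop) [DecidablePred p] : Decidable (∀ a, p a) := decAll 360 el ex_el p
instance (priority := high) (p : KM → Prop) [DecidablePred p] : Decidable (∃ a, p a) := decEx 360 el ex_el p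

instance : Mul KM := ⟨fun a b => ⟨a.n * act a.s b.n, sm a.s b.s⟩⟩
instance : Inv KM := ⟨fun a => ⟨act a.s a.n⁻¹, si a.s⟩⟩
instance : One KM := ⟨el 0⟩

theorem act_mul : ∀ a : Fin 6, ∀ m n : A60, act a (m * n) = act a m * act a n := by decide +kernel
theorem act_act : ∀ a b : Fin 6, ∀ n : A60, act (sm a b) n = act a (act b n) := by decide +kernel
theorem sm_assoc : ∀ a b c : Fin 6, sm (sm a b) c = sm a (sm b c) := by decide +kernel
theorem one_mul' : ∀ a : KM, 1 * a = a := by decide +kernel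
theorem inv_mul' : ∀ a : KM, a⁻¹ * a = 1 := by decide +kernel

instance : Group KM := Group.ofLeftAxioms
  (fun a b c => ext' (show a.n * act a.s b.n * act (sm a.s b.s) c.n = a.n * act a.s (b.n * act b.s c.n) by
    rw [act_mul, act_act, mul_assoc]) (sm_assoc _ _ _)) one_mul' inv_mul'

/-- The components. -/
def eqv : KM ≃ A60 × Fin 6 := ⟨fun a => (a.n, a.s), fun p => ⟨p.1, p.2⟩, fun _ => rfl, fun _ => rfl⟩

instance : Finite KM := Finite.of_equiv _ eqv.symm

theorem card : Nat.card KM = 360 := by rw [Nat.card_congr eqv, Nat.card_prod, A60.card]; simp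

/-- The permutation of three points. -/
def p3 (a : Fin 6) : Perm (Fin 3) := ![1, swap 0 2 * swap 0 1, swap 0 1 * swap 0 2, swap 0 1, swap 1 2, swap 0 2] a
/-- The correcting transposition. -/
def p2 (a : Fin 6) : Perm (Fin 5) := cond (Nat.ble 3 a.1) (swap 3 4) 1

/-- The embedding into `S₃ × S₅`. -/
def emb : KM →* Perm (Fin 3) × Perm (Fin 5) := MonoidHom.mk' (fun a => (p3 a.s, a.n.perm * p2 a.s)) fun a b => by
  have h1 : ∀ a b, p3 (sm a b) = p3 a * p3 b ∧ p2 (sm a b) = p2 a * p2 b := by decide +kernel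
  have h2 : ∀ a n, (act a n).perm * p2 a = p2 a * n.perm := by decide +kernel
  refine Prod.ext (h1 _ _).1 ?_
  show (a.n * act a.s b.n).perm * p2 (sm a.s b.s) = a.n.perm * p2 a.s * (b.n.perm * p2 b.s)
  rw [(h1 _ _).2, show (a.n * act a.s b.n).perm = a.n.perm * (act a.s b.n).perm from Equiv.ext (A60.ap_mul _ _), mul_assoc,
    ← mul_assoc _ (p2 a.s), h2]
  simp only [mul_assoc]

theorem emb_inj : Function.Injective emb := (injective_iff_map_eq_one _).2 (by decide +kernel)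

theorem emb_range : emb.range = ((Perm.sign.comp (MonoidHom.fst (Perm (Fin 3)) (Perm (Fin 5)))) *
    (Perm.sign.comp (MonoidHom.snd (Perm (Fin 3)) (Perm (Fin 5))))).ker := by
  refine Subgroup.eq_of_le_of_card_ge ?_ ?_
  · rintro _ ⟨a, rfl⟩
    show Perm.sign (p3 a.s) * Perm.sign (a.n.perm * p2 a.s) = 1
    rw [map_mul, A60.sign_perm, one_mul]
    exact (by decide +kernel : ∀ s, Perm.sign (p3 s) * Perm.sign (p2 s) = 1) a.s
  · have := Subgroup.card_mul_index ((Perm.sign.comp (MonoidHom.fst (Perm (Fin 3)) (Perm (Fin 5)))) *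
      (Perm.sign.comp (MonoidHom.snd (Perm (Fin 3)) (Perm (Fin 5))))).ker
    rw [Subgroup.index_ker, MonoidHom.range_eq_top.2 fun u => by
      rcases Int.units_eq_one_or u with rfl | rfl
      exacts [⟨1, map_one _⟩, ⟨(swap 0 1, 1), by decide +kernel⟩], Subgroup.card_top, Nat.card_prod, Nat.card_perm, Nat.card_perm]
      at this
    rw [← Nat.card_congr (MonoidHom.ofInjective emb_inj).toEquiv, card]
    simp [Nat.factorial] at this ⊢
    omega

end KM

end Cfsg.Lib.A8L
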