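import Cfsg.Agent.Lib.A8L.Emb
import Cfsg.Agent.Lib.X32.CaseB
import Cfsg.Agent.Lib.Coprime.Generation

/-!
# The centraliser of a four-group
-/

set_option maxRecDepth 100000
set_option synthInstance.maxSize 100000
set_option synthInstance.maxHeartbeats 200000
set_option Elab.async false

namespace Cfsg.Lib.A8L

open Subgroup Cfsg.Lib.X32 Cfsg.Lib.Transfer

universe u

local notation "⟬" n "⟭" => KM.el n

local instance : Fact (Nat.Prime 2) := ⟨Nat.prime_two⟩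
local instance : Fact (Nat.Prime 3) := ⟨Nat.prime_three⟩

variable {G : Type u} [Group G]

theorem syl_of [Finite G] {p : ℕ} [Fact p.Prime] {P K : Subgroup G} (hP : IsPGroup p P) (hK : P ≤ K)
    (hn : ∀ n ∈ K, n ∈ normalizer (P : Set G) → (∀ t ∈ P, ∃ k, (t * n) ^ p ^ k = 1) → n ∈ P) : SylowIn p P K :=
  sylowIn_of_maximal hK hP fun Q hQ h1 h2 => by
    by_contra hc
    obtain ⟨g, ⟨h3, h4⟩, h5⟩ := SetLike.exists_of_lt (lt_inf_normalizer hQ (lt_of_le_of_ne h1 fun e => hc e.ge))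
    exact h5 (hn g (h2 h3) h4 fun t ht => (hQ ⟨_, mul_mem (h1 ht) h3⟩).imp fun k hk => congrArg Subtype.val hk)

theorem cop {x : G} {p q k : ℕ} (h : x ^ p ^ k = 1) (c : p.Coprime q) : (orderOf x).Coprime q :=
  (c.pow_left k).coprime_dvd_left (orderOf_dvd_of_pow_eq_one h)

theorem pzp {x : G} {p : ℕ} [Fact p.Prime] (h : x ^ p = 1) : IsPGroup p (zpowers x) :=
  IsPGroup.of_card_dvd_pow (n := 1) (by rw [Nat.card_zpowers, pow_one]; exact orderOf_dvd_of_pow_eq_one h)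

theorem zp3 {x y : G} (h : x ^ 3 = 1) (hy : y ∈ zpowers x) : y = 1 ∨ y = x ∨ y = x⁻¹ := by
  obtain ⟨k, rfl⟩ := hy
  have e : x ^ k = x ^ (k % 3) := zpow_eq_zpow_emod k (by exact_mod_cast h)
  have : k % 3 = 0 ∨ k % 3 = 1 ∨ k % 3 = 2 := by omega
  rcases this with c | c | c <;> simp only [e, c]
  exacts [.inl (zpow_zero x), .inr (.inl (zpow_one x)), .inr (.inr (eq_inv_of_mul_eq_one_left (by rw [← h]; group)))]

theorem b3 {x f a s : G} (ff : f * f = 1) (xx : x * x = s) (ss : s * s = 1) (sf : Commute s f)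
    (sa : Commute s a) (ax : a * x * a⁻¹ = x * s) (e : Commute f (x * f * x⁻¹)) (z3 : a * f * (a * f) * (a * f) = 1) :
    ∃ w, Commute w (a * f) ∧ w * w = s := by
  have sx : Commute s x := xx ▸ (Commute.refl x).mul_left (.refl x)
  have fi := inv_eq_of_mul_eq_one_right ff
  have e1 : x * (x * f * x⁻¹) * x⁻¹ = f := by
    rw [← mul_assoc, ← mul_assoc, xx, sf.eq, mul_assoc, mul_assoc, ← mul_inv_rev, xx, mul_inv_cancel, mul_one]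
  have c1 : Commute x (f * x * f⁻¹) := by
    have : Commute x (x * f * x⁻¹ * f) := mul_inv_eq_iff_eq_mul.1 (by rw [← conj_mul, e1, e.eq])
    rw [show f * x * f⁻¹ = x * (x * f * x⁻¹ * f) by rw [fi]; nth_rewrite 1 [← e1]; group]
    exact (Commute.refl x).mul_right this
  have sz : Commute s (a * f) := sa.mul_right sf
  have c2 : Commute x (a * f * x * (a * f)⁻¹) := by
    have := c1.conj a
    rw [ax, show a * (f * x * f⁻¹) * a⁻¹ = a * f * x * (a * f)⁻¹ by group] at this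
    simpa using this.mul_left ((sz.mul_right sx).mul_right sz.inv_right).inv_left
  generalize a * f = z at *
  have e3 : ∀ y, z * (z * (z * y * z⁻¹) * z⁻¹) * z⁻¹ = y := fun y => by
    calc _ = z * z * z * y * (z * z * z)⁻¹ := by group
      _ = _ := by rw [z3]; group
  have c3 := c2.conj z
  have c4 := c3.conj z
  rw [e3] at c4
  have k : z * s * z⁻¹ = s := by rw [← sz.eq, mul_inv_cancel_right]
  refine ⟨x * (z * x * z⁻¹) * (z * (z * x * z⁻¹) * z⁻¹), Commute.symm (mul_inv_eq_iff_eq_mul.1 ?_), ?_⟩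
  · rw [← conj_mul, ← conj_mul, e3, mul_assoc x, (c2.mul_right c4.symm).eq]
  · rw [← pow_two, (c4.symm.mul_left c3).mul_pow, c2.mul_pow, pow_two, pow_two, pow_two, conj_mul, conj_mul, conj_mul, xx, k, k,
      ss, one_mul]

theorem ncj {M : Type} [Group M] {φ : M →* G} {P : Subgroup M} {n : G} (h : n ∈ normalizer (P.map φ : Set G)) {p : M}
    (hp : p ∈ P) : ∃ q ∈ P, Cj φ n p q := by
  obtain ⟨q, h1, h2⟩ := conj_mem_of_mem_normalizer h (mem_map_of_mem φ hp)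
  exact ⟨q, h1, h2.symm⟩

theorem nrm [Finite G] {M : Type} [Group M] {φ : M →* G} {P : Subgroup M} {n : G} (h : ∀ p ∈ P, ∃ q ∈ P, Cj φ n p q) :
    n ∈ normalizer (P.map φ : Set G) := mem_normalizer_of_cj_le (cj_le_iff.2 (by
  rintro _ ⟨p, hp, rfl⟩
  obtain ⟨q, h1, h2⟩ := h p hp
  exact ⟨q, h1, Eq.symm h2⟩))

theorem Cj.pow' {M : Type} [Group M] {φ : M →* G} {y : G} {p q : M} (h : Cj φ y p q) (n : ℕ) : Cj φ y (p ^ n) (q ^ n) := by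
  unfold Cj at *; rw [map_pow, map_pow, ← h, conj_pow]

namespace KM
/-- A four-group. -/
abbrev F : Subgroup KM := sg (inL [0, 13, 30, 43]) (by decide +kernel)
/-- Another four-group. -/
abbrev V : Subgroup KM := sg (inL [0, 13, 181, 192]) (by decide +kernel)
/-- A dihedral subgroup. -/
abbrev S : Subgroup KM := sg (inL [0, 13, 30, 43, 181, 192, 211, 222]) (by decide +kernel)
end KM

variable {κ : KM →* G} {u : G}

/-- The centraliser of the four-group. -/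
abbrev CF (κ : KM →* G) : Subgroup G := centralizer (KM.F.map κ : Set G)

theorem mem_CF {g : G} (h1 : Cj κ g ⟬13⟭ ⟬13⟭) (h2 : Cj κ g ⟬30⟭ ⟬30⟭) : g ∈ CF κ := by
  rintro _ ⟨p, hp, rfl⟩
  rcases (by decide +kernel : ∀ p ∈ KM.F, p = 1 ∨ p = ⟬13⟭ ∨ p = ⟬30⟭ ∨ p = ⟬13⟭ * ⟬30⟭) p hp with rfl | rfl | rfl | rfl
  exacts [Cj.one.comm.symm, h1.comm.symm, h2.comm.symm, (h1.mul h2).comm.symm]

namespace Cf

variable (h : Cf κ u)
include h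

theorem eq {a b : KM} (e : κ a * κ b = κ b * κ a) : a * b = b * a := h.inj (by rw [map_mul, map_mul, e])

theorem uz' : Cj κ u ⟬15⟭ ⟬60⟭ := h.uz.symm.cast' h.ui

theorem uD {d : KM} (hd : d ∈ KM.D) : ∃ e ∈ KM.D, Cj κ u d e ∧ (d = e → d = 1 ∨ d = ⟬75⟭ ∨ d = ⟬75⟭⁻¹) := by
  obtain ⟨i, -, j, -, rfl, e⟩ := (by decide +kernel : ∀ d ∈ KM.D, ∃ i < 3, ∃ j < 3, d = ⟬60⟭ ^ i * ⟬15⟭ ^ j ∧
    ⟬15⟭ ^ i * ⟬60⟭ ^ j ∈ KM.D ∧ (d = ⟬15⟭ ^ i * ⟬60⟭ ^ j → d = 1 ∨ d = ⟬75⟭ ∨ d = ⟬75⟭⁻¹)) d hd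
  exact ⟨_, e.1, (Cj.pow' h.uz i).mul (Cj.pow' h.uz' j), e.2⟩

theorem mulD {d e : KM} (hd : d ∈ KM.D) (he : e ∈ KM.D) : κ d * u * (κ e * u) ∈ KM.D.map κ := by
  obtain ⟨q, h1, h2, -⟩ := h.uD he
  exact ⟨_, mul_mem hd h1, by rw [map_mul, ← h2, h.ui]; group⟩

theorem hy2 {g : G} (e : g * κ ⟬75⟭ = κ ⟬75⟭ * g) : g * g ∈ KM.D.map κ := by
  obtain ⟨d, hd, rfl | rfl⟩ := h.hy g e
  exacts [mul_mem (mem_map_of_mem κ hd) (mem_map_of_mem κ hd), h.mulD hd hd]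

theorem D2 {g : G} (hg : g ∈ KM.D.map κ) (e : g * g = 1) : g = 1 := by
  obtain ⟨d, hd, rfl⟩ := hg
  rw [(by decide +kernel : ∀ d ∈ KM.D, d * d = 1 → d = 1) d hd (h.inj (by rw [map_mul, e, map_one])), map_one]

theorem nzy {g : G} (e : Cj κ g ⟬60⟭ ⟬75⟭) : False := by
  have k : ∀ p, (p * ⟬60⟭ * p⁻¹ = ⟬60⟭ ∧ p * p = 1 ∧ p ≠ 1) → ∃ d ∈ KM.D, g * κ p * g⁻¹ = κ d * u := fun p c => by
    obtain ⟨d, hd, e | e⟩ := h.hy _ ((e.symm.comp ((Cj.of p _).cast rfl c.1)).comp e).comm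
    · exact absurd (h.inj ((conj_eq_one_iff.1 (h.D2 (g := g * κ p * g⁻¹) ⟨d, hd, by rw [← e]; group⟩ (by
        rw [conj_mul, ← map_mul, c.2.1]; simp))).trans (map_one κ).symm)) c.2.2
    · exact ⟨d, hd, by rw [← e]; group⟩
  obtain ⟨d, hd, e1⟩ := k ⟬13⟭ (by decide +kernel)
  obtain ⟨d', hd', e2⟩ := k ⟬30⟭ (by decide +kernel)
  have := h.D2 (h.mulD hd hd') (by
    rw [← e1, ← e2, conj_mul, conj_mul, ← map_mul, ← map_mul, show ⟬13⟭ * ⟬30⟭ * (⟬13⟭ * ⟬30⟭) = 1 by decide +kernel]; simp)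
  rw [← e1, ← e2, conj_mul, conj_eq_one_iff, ← map_mul, ← map_one κ] at this
  exact absurd (h.inj this) (by decide +kernel)

theorem bad (e : κ ⟬13⟭ * (u * κ ⟬14⟭ * u⁻¹) = u * κ ⟬14⟭ * u⁻¹ * κ ⟬13⟭) : False := by
  have a : u * κ ⟬12⟭ * u⁻¹ = κ ⟬180⟭ := h.ua.symm.cast' h.ui
  have m : ∀ {a b c : KM}, a * b = c → κ a * κ b = κ c := fun e => by rw [← map_mul, e]
  have o : ∀ {a b : KM}, a * b = 1 → κ a * κ b = 1 := fun e => by rw [← map_mul, e, map_one]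
  have c : ∀ {a b : KM}, a * b = b * a → Commute (κ a) (κ b) := fun e => (m e).trans (map_mul κ _ _)
  obtain ⟨w, w1, w2⟩ := b3 (x := u * κ ⟬12⟭) (f := κ ⟬13⟭) (a := κ ⟬12⟭) (s := κ ⟬192⟭)
    (o (by decide +kernel)) (by rw [← m (show ⟬180⟭ * ⟬12⟭ = ⟬192⟭ by decide +kernel), ← a, h.ui, mul_assoc _ u, mul_assoc u])
    (o (by decide +kernel)) (c (by decide +kernel)) (c (by decide +kernel))
    (by rw [mul_assoc u, m (show ⟬12⟭ * ⟬192⟭ = ⟬180⟭ by decide +kernel), ← h.ua]; group)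
    (by
      rw [show ⟬14⟭ = ⟬12⟭ * ⟬13⟭ * ⟬12⟭⁻¹ by decide +kernel, map_mul, map_mul, map_inv] at e
      rwa [show u * κ ⟬12⟭ * κ ⟬13⟭ * (u * κ ⟬12⟭)⁻¹ = u * (κ ⟬12⟭ * κ ⟬13⟭ * (κ ⟬12⟭)⁻¹) * u⁻¹ by group])
    (by rw [← map_mul, ← map_mul]; exact o (by decide +kernel))
  rw [← map_mul] at w1
  have d : Cj κ (u * κ ⟬57⟭) (⟬12⟭ * ⟬13⟭) ⟬60⟭ := ((Cj.of ⟬57⟭ _).cast rfl (by decide +kernel)).comp h.uz'
  obtain ⟨k, hk⟩ := h.cen ((d.symm.comp (.of_comm w1)).comp d).comm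
  have k2 : κ (k * k) = u * κ ⟬57⟭ * κ ⟬192⟭ * (u * κ ⟬57⟭)⁻¹ := by rw [map_mul, hk, ← w2]; group
  have := (by decide +kernel : ∀ k, k * ⟬60⟭ = ⟬60⟭ * k → k * k * (k * k) = 1 → k * k = 1) k
    (h.eq (hk ▸ ((d.symm.comp (.of_comm w1)).comp d).comm))
    (h.inj (by rw [map_mul, k2, conj_mul, o (by decide +kernel), map_one, mul_one, mul_inv_cancel]))
  rw [this, map_one, eq_comm, conj_eq_one_iff, ← map_one κ] at k2
  exact absurd (h.inj k2) (by decide +kernel)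

variable [Finite G]

theorem uf : ¬ IsConj u (κ ⟬13⟭) := fun hc => by
  obtain ⟨g, hg⟩ := isConj_iff.1 hc
  have y3 : κ ⟬75⟭ ^ 3 = 1 := by rw [← map_pow, show ⟬75⟭ ^ 3 = 1 by decide +kernel, map_one]
  have y1 : κ ⟬75⟭ ≠ 1 := fun e => absurd (h.inj (e.trans (map_one κ).symm)) (by decide +kernel)
  have hS : SylowIn 3 (zpowers (κ ⟬75⟭)) (centralizer {u}) := syl_of (pzp y3) (zpowers_le.2 (mem_centralizer_singleton_iff.2
    ((h.uz.mul h.uz').cast (by decide +kernel) (by decide +kernel)).comm.symm)) fun n h1 h2 h3 => by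
    obtain ⟨k, hk⟩ := h3 1 (one_mem _)
    rw [one_mul] at hk
    have : n * n * κ ⟬75⟭ * (n * n)⁻¹ = κ ⟬75⟭ := by
      rw [mul_inv_rev, mul_assoc n n, ← mul_assoc, mul_assoc n]
      rcases zp3 y3 (conj_mem_of_mem_normalizer h2 (mem_zpowers _)) with e | e | e
      exacts [absurd (conj_eq_one_iff.1 e) y1, by rw [e, e], by rw [e, conj_inv.symm, e, inv_inv]]
    obtain ⟨d, hd, rfl⟩ := mem_of_pow_mem_of_coprime (n := 4) (cop hk (by decide))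
      ((by simp only [pow_succ, pow_zero, one_mul, mul_assoc] : n * n * (n * n) = n ^ 4) ▸ h.hy2 (mul_inv_eq_iff_eq_mul.1 this))
    obtain ⟨q, -, e1, e2⟩ := h.uD hd
    rcases e2 ((Cj.of_comm (mem_centralizer_singleton_iff.1 h1).symm).uniq h.inj e1) with rfl | rfl | rfl
    exacts [map_one κ ▸ one_mem _, mem_zpowers _, map_inv κ _ ▸ inv_mem (mem_zpowers _)]
  have z3 : (g⁻¹ * κ ⟬60⟭ * g⁻¹⁻¹) ^ 3 = 1 := by rw [conj_pow, ← map_pow, show ⟬60⟭ ^ 3 = 1 by decide +kernel]; simp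
  obtain ⟨k, -, hk⟩ := hS.exists_cj_le (pzp z3) (zpowers_le.2 (mem_centralizer_singleton_iff.2 (by
    rw [(by rw [← hg]; group : u = g⁻¹ * κ ⟬13⟭ * g⁻¹⁻¹), conj_mul, conj_mul, ← map_mul, ← map_mul]; rfl)))
  have e : k * g⁻¹ * κ ⟬60⟭ * (k * g⁻¹)⁻¹ = k * (g⁻¹ * κ ⟬60⟭ * g⁻¹⁻¹) * k⁻¹ := by group
  rcases zp3 y3 (hk (conj_mem_cj.2 (mem_zpowers _))) with e' | e' | e'
  · exact absurd (h.inj ((conj_eq_one_iff.1 (e.trans e')).trans (map_one κ).symm)) (by decide +kernel)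
  · exact h.nzy (e.trans e')
  · exact h.nzy ((Cj.comp (q := ⟬75⟭⁻¹) (e.trans (e'.trans (map_inv κ _).symm)) (.of ⟬192⟭ _)).cast rfl (by decide +kernel))

theorem pnil : PNil 3 (CF κ) := by
  have z3 : κ ⟬60⟭ ^ 3 = 1 := by rw [← map_pow, show ⟬60⟭ ^ 3 = 1 by decide +kernel, map_one]
  have k : ∀ n ∈ CF κ, n ∈ normalizer (zpowers (κ ⟬60⟭) : Set G) → ∃ k, κ k = n ∧ k * ⟬60⟭ = ⟬60⟭ * k ∧
      (k ^ 4 = 1 ∨ k ^ 4 = ⟬60⟭ ∨ k ^ 4 = ⟬60⟭⁻¹) := fun n h1 h2 => by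
    obtain ⟨k, rfl⟩ := h.nz n (by
      rcases zp3 z3 (conj_mem_of_mem_normalizer h2 (mem_zpowers _)) with e | e | e
      exacts [absurd (h.inj ((conj_eq_one_iff.1 e).trans (map_one κ).symm)) (by decide +kernel), .inl e,
        .inr (e.trans (map_inv κ _).symm)])
    exact ⟨k, rfl, (by decide +kernel : ∀ k, ⟬13⟭ * k = k * ⟬13⟭ → ⟬30⟭ * k = k * ⟬30⟭ → k * ⟬60⟭ = ⟬60⟭ * k ∧
      (k ^ 4 = 1 ∨ k ^ 4 = ⟬60⟭ ∨ k ^ 4 = ⟬60⟭⁻¹)) k (h.eq (h1 _ (mem_map_of_mem κ (by decide +kernel))))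
      (h.eq (h1 _ (mem_map_of_mem κ (by decide +kernel))))⟩
  refine (syl_of (pzp z3) (zpowers_le.2 (mem_CF ((Cj.of _ _).cast rfl (by decide +kernel))
    ((Cj.of _ _).cast rfl (by decide +kernel)))) fun n h1 h2 h3 => ?_).pnil_of_normalizer_le_centralizer fun n hn => ?_
  · obtain ⟨j, hj⟩ := h3 1 (one_mem _)
    obtain ⟨k, rfl, -, e⟩ := k n h1 h2
    refine mem_of_pow_mem_of_coprime (n := 4) (cop (one_mul (κ k) ▸ hj) (by decide)) ?_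
    rw [← map_pow]
    rcases e with e | e | e <;> rw [e]
    exacts [map_one κ ▸ one_mem _, mem_zpowers _, map_inv κ _ ▸ inv_mem (mem_zpowers _)]
  · obtain ⟨k, rfl, e, -⟩ := k n hn.1 hn.2
    rintro _ ⟨j, rfl⟩
    exact (Commute.zpow_left (show κ ⟬60⟭ * κ k = _ by rw [← map_mul, ← e, map_mul]) j).eq

theorem r3 {r : G} (hr : r ∈ resOf 3 (CF κ)) (e : r * r * r = 1) : r = 1 :=
  mem_bot.1 (h.pnil.disjoint (pzp (x := r) (by rwa [pow_three'])) ▸ ⟨mem_zpowers r, hr⟩)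

omit h in
theorem nR {k : KM} (c : ∀ p ∈ KM.F, k * p * k⁻¹ ∈ KM.F) : κ k ∈ normalizer (resOf 3 (CF κ) : Set G) :=
  normalizer_le_normalizer_resOf _ (Core.normalizer_le_normalizer_centralizer _ (nrm fun p hp => ⟨_, c p hp, .of k p⟩))

theorem rz {r : G} (hr : r ∈ resOf 3 (CF κ)) (e : r * κ ⟬60⟭ = κ ⟬60⟭ * r) : r ∈ KM.F.map κ := by
  obtain ⟨k, rfl⟩ := h.cen e
  have := h.r3 (pow_mem hr 4)
  simp only [← map_pow, ← map_mul, map_eq_one_iff κ h.inj] at this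
  exact mem_map_of_mem κ ((by decide +kernel : ∀ k, ⟬13⟭ * k = k * ⟬13⟭ → ⟬30⟭ * k = k * ⟬30⟭ →
    (k ^ 4 * k ^ 4 * k ^ 4 = 1 → k ^ 4 = 1) → k ∈ KM.F) k (h.eq (resOf_le _ hr _ (mem_map_of_mem κ (by decide +kernel))))
      (h.eq (resOf_le _ hr _ (mem_map_of_mem κ (by decide +kernel)))) this)

theorem rx {r : G} (hr : r ∈ resOf 3 (CF κ)) (e : r * κ ⟬15⟭ = κ ⟬15⟭ * r) : ∃ k ∈ KM.F, r = u * κ k * u⁻¹ := by
  obtain ⟨k, hk⟩ := h.cen ((h.uz.comp (.of_comm e)).comp h.uz.symm).comm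
  obtain rfl : r = u * κ k * u⁻¹ := by rw [hk]; group
  let Y := (resOf 3 (CF κ)).comap ((MulAut.conj u).toMonoidHom.comp κ)
  replace hr : k ∈ Y := hr
  have y1 : ∀ d ∈ KM.D, ∀ p ∈ Y, d * p * d⁻¹ ∈ Y := fun d hd p hp => by
    obtain ⟨q, h1, h2, -⟩ := h.uD hd
    have := conj_mem_of_mem_normalizer (nR ((by decide +kernel : ∀ q ∈ KM.D, ∀ p ∈ KM.F, q * p * q⁻¹ ∈ KM.F) q h1)) hp
    rw [← h2] at this
    simpa [Y, mul_assoc] using this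
  have y3 : ∀ p ∈ Y, p * p * p = 1 → p = 1 := fun p hp e => h.inj ((conj_eq_one_iff.1 (h.r3 hp (by
    rw [conj_mul, conj_mul, ← map_mul, ← map_mul, e]; simp))).trans (map_one κ).symm)
  have a := y1 ⟬15⟭ (by decide +kernel) k hr
  have b := y1 ⟬24⟭ (by decide +kernel) k hr
  rcases (by decide +kernel : ∀ k, k * ⟬60⟭ = ⟬60⟭ * k → (∀ p ∈ [k ^ 10, k * (⟬15⟭ * k * ⟬15⟭⁻¹), k * k * (⟬15⟭ * k * ⟬15⟭⁻¹),
      k * (⟬15⟭ * k * ⟬15⟭⁻¹) * k * (⟬24⟭ * k * ⟬24⟭⁻¹)], p * p * p = 1 → p = 1) → k ∈ KM.F ∨ ∃ d ∈ KM.D, d * k * d⁻¹ = ⟬14⟭) k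
    (h.eq (hk ▸ ((h.uz.comp (.of_comm e)).comp h.uz.symm).comm)) (fun p hp => y3 p (by
      simp only [List.mem_cons, List.not_mem_nil, or_false] at hp
      rcases hp with rfl | rfl | rfl | rfl
      exacts [pow_mem hr _, mul_mem hr a, mul_mem (mul_mem hr hr) a, mul_mem (mul_mem (mul_mem hr a) hr) b])) with c | ⟨d, hd, c⟩
  · exact ⟨k, c, rfl⟩
  · exact (h.bad (resOf_le (CF κ) (c ▸ y1 d hd k hr) _ (mem_map_of_mem κ (by decide +kernel)))).elim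

theorem ry {r : G} (hr : r ∈ resOf 3 (CF κ)) {d k : KM} (e : r * κ d = κ d * r) (c : k * d * k⁻¹ = ⟬75⟭ ∧
    (k⁻¹ * ⟬60⟭ * k = ⟬60⟭ ∨ k⁻¹ * ⟬60⟭ * k = ⟬60⟭⁻¹) ∧ (∀ p ∈ KM.D, k⁻¹ * p * k ∈ KM.D) ∧ ∀ p ∈ KM.F, p * d = d * p → p = 1) :
    r = 1 := by
  have c1 : ∃ q ∈ KM.D, Cj κ (κ k * r * (κ k)⁻¹) ⟬60⟭ q := by
    obtain ⟨p, hp, e | e⟩ := h.hy _ (((Cj.of_comm e).conj k).cast c.1 c.1).comm <;> rw [e]
    exacts [⟨_, mul_mem (mul_mem hp (by decide +kernel)) (inv_mem hp), .of _ _⟩,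
      ⟨_, mul_mem (mul_mem hp (by decide +kernel)) (inv_mem hp), h.uz.comp (.of _ _)⟩]
  obtain ⟨q, hq, c1⟩ := c1
  have c2 : Cj κ r (k⁻¹ * ⟬60⟭ * k) (k⁻¹ * q * k) := ((c1.conj k⁻¹).cast (by group) (by group)).cast' (by simp [mul_assoc])
  obtain ⟨q, hq, c2⟩ : ∃ q ∈ KM.D, Cj κ r ⟬60⟭ q := by
    rcases c.2.1 with e | e <;> rw [e] at c2
    exacts [⟨_, c.2.2.1 q hq, c2⟩, ⟨_, inv_mem (c.2.2.1 q hq), c2.inv.cast (inv_inv _) rfl⟩]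
  have := h.r3 (mul_mem hr (conj_mem_of_mem_normalizer (nR (k := ⟬60⟭) (by decide +kernel)) (inv_mem hr))) (by
    rw [← mul_assoc r, ← mul_assoc r, c2, ← map_inv, ← map_mul, ← map_mul, ← map_mul,
      (by decide +kernel : ∀ q ∈ KM.D, q * q * q = 1) _ (mul_mem hq (by decide +kernel)), map_one])
  obtain ⟨p, hp, rfl⟩ := h.rz hr (by rw [← mul_inv_eq_one, ← this]; group)
  rw [c.2.2.2 p hp (h.eq e), map_one]

theorem resF {B : Subgroup G} (h1 : KM.F.map κ ≤ B) (h2 : ∀ k ∈ KM.F, u * κ k * u⁻¹ ∈ resOf 3 (CF κ) → u * κ k * u⁻¹ ∈ B) :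
    resOf 3 (CF κ) ≤ B := by
  have : IsMulCommutative (KM.D.map κ) := ⟨⟨by
    rintro ⟨_, a, ha, rfl⟩ ⟨_, b, hb, rfl⟩
    exact Subtype.ext (by
      show κ a * κ b = κ b * κ a
      rw [← map_mul, (by decide +kernel : ∀ a ∈ KM.D, ∀ b ∈ KM.D, a * b = b * a) a ha b hb, map_mul])⟩⟩
  have D3 : ∀ a ∈ KM.D.map κ, a ^ 3 = 1 := by
    rintro _ ⟨a, ha, rfl⟩
    rw [← map_pow, (by decide +kernel : ∀ a ∈ KM.D, a ^ 3 = 1) a ha, map_one]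
  obtain ⟨j, hj⟩ := IsPGroup.iff_card.1 (show IsPGroup 3 (KM.D.map κ) from fun a => ⟨1, Subtype.ext (D3 a a.2)⟩)
  refine Coprime.le_of_forall_centralizer_le (A := KM.D.map κ) (fun hc => ?_) ?_ (hj ▸ h.pnil.coprime.symm.pow_left j) ?_
  · obtain ⟨_, e⟩ := (Subgroup.isCyclic_iff_exists_zpowers_eq_top _).1 hc
    obtain ⟨a, ha, rfl⟩ := e.le (mem_zpowers _)
    have k : ∀ p ∈ KM.D, p = 1 ∨ p = a ∨ p = a⁻¹ := fun p hp => by
      have := zp3 (D3 _ (mem_map_of_mem κ ha)) (e.ge (mem_map_of_mem κ hp))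
      rwa [← map_inv, ← map_one κ, h.inj.eq_iff, h.inj.eq_iff, h.inj.eq_iff] at this
    exact (by decide +kernel : ∀ a : KM, ¬ ∀ p ∈ KM.D, p = 1 ∨ p = a ∨ p = a⁻¹) a k
  · rintro _ ⟨a, ha, rfl⟩
    exact nR ((by decide +kernel : ∀ q ∈ KM.D, ∀ p ∈ KM.F, q * p * q⁻¹ ∈ KM.F) a ha)
  rintro _ ⟨a, ha, rfl⟩ a1 r ⟨hr, e⟩
  have e := mem_centralizer_singleton_iff.1 e
  have e2 : r * κ (a * a) = κ (a * a) * r := by rw [map_mul, ← mul_assoc, e, mul_assoc, e, mul_assoc]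
  rcases (by decide +kernel : ∀ a ∈ KM.D, a = 1 ∨ (a = ⟬60⟭ ∨ a * a = ⟬60⟭) ∨ (a = ⟬15⟭ ∨ a * a = ⟬15⟭) ∨
    ∃ k ∈ [1, ⟬12⟭, ⟬180⟭, ⟬192⟭], k * a * k⁻¹ = ⟬75⟭ ∧ (k⁻¹ * ⟬60⟭ * k = ⟬60⟭ ∨ k⁻¹ * ⟬60⟭ * k = ⟬60⟭⁻¹) ∧
      (∀ p ∈ KM.D, k⁻¹ * p * k ∈ KM.D) ∧ ∀ p ∈ KM.F, p * a = a * p → p = 1) a ha with rfl | c | c | ⟨k, -, c⟩
  · exact absurd (map_one κ) a1
  · exact h1 (h.rz hr (c.elim (· ▸ e) (· ▸ e2)))
  · obtain ⟨k, hk, rfl⟩ := h.rx hr (c.elim (· ▸ e) (· ▸ e2))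
    exact h2 k hk hr
  · rw [h.ry hr e c]; exact one_mem _

theorem notF : ¬ resOf 3 (CF κ) ≤ KM.F.map κ := fun hR => by
  have hS : SylowIn 2 (KM.S.map κ) (normalizer (KM.V.map κ : Set G)) := syl_of (pgrp (by decide +kernel)) (by
    rintro _ ⟨a, ha, rfl⟩
    exact nrm fun p hp => ⟨_, (by decide +kernel : ∀ a ∈ KM.S, ∀ p ∈ KM.V, a * p * a⁻¹ ∈ KM.V) a ha p hp, .of a p⟩)
    fun n h1 h2 h3 => by
      obtain ⟨q, q1, q2⟩ := ncj h2 (p := ⟬30⟭) (by decide +kernel)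
      obtain ⟨s, s1, s2⟩ := ncj h1 (p := ⟬192⟭) (by decide +kernel)
      have c := ((q2.mul s2).mul q2.inv).mul s2.inv
      obtain ⟨t, t1, t2, t3⟩ := (by decide +kernel : ∀ q ∈ KM.S, ∀ s ∈ KM.V, q * q = 1 → q ∉ KM.V → q * s * q⁻¹ * s⁻¹ ≠ 1 →
        ∃ t ∈ KM.S, t * q * t⁻¹ = ⟬30⟭ ∧ t * (q * s * q⁻¹ * s⁻¹) * t⁻¹ = ⟬13⟭) q q1 s s1
        ((q2.mul q2).uniq h.inj (Cj.one.cast (by decide +kernel) rfl)) (fun e => by
          obtain ⟨p, p1, p2⟩ := ncj (inv_mem h1) e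
          exact absurd (p2.uniq h.inj q2.symm ▸ p1) (by decide +kernel))
        fun e => absurd ((e ▸ c).symm.uniq h.inj Cj.one) (by decide +kernel)
      obtain ⟨k, hk⟩ := h3 _ (mem_map_of_mem κ t1)
      exact (mul_mem_cancel_left (mem_map_of_mem κ t1)).1 (map_mono (by decide +kernel : ∀ p ∈ KM.F, p ∈ KM.S) (hR (mem_resOf
        (mem_CF ((c.comp (.of t _)).cast (by decide +kernel) t3) ((q2.comp (.of t _)).cast rfl t2)) (cop hk (by decide)))))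
  have a := (h.ua.conj ⟬182⟭).cast (q' := ⟬13⟭) (p' := ⟬181⟭) (by decide +kernel) (by decide +kernel)
  have b := (a.symm.cast' (y' := κ ⟬182⟭ * u * (κ ⟬182⟭)⁻¹) (by rw [conj_inv, h.ui]))
  obtain ⟨g, -, p, hp, e⟩ := exists_cj hS (a := κ ⟬182⟭ * u * (κ ⟬182⟭)⁻¹) (n := 1) (nrm fun p hp => by
    rcases (by decide +kernel : ∀ p ∈ KM.V, p = 1 ∨ p = ⟬181⟭ ∨ p = ⟬13⟭ ∨ p = ⟬181⟭ * ⟬13⟭) p hp with rfl | rfl | rfl | rfl
    exacts [⟨_, one_mem _, .one⟩, ⟨_, by decide +kernel, a⟩, ⟨_, by decide +kernel, b⟩, ⟨_, by decide +kernel, a.mul b⟩])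
    (by rw [pow_one, pow_two, conj_mul, h.uu]; simp)
  have c : IsConj u (κ p) := isConj_iff.2 ⟨g * κ ⟬182⟭, by rw [← e]; group⟩
  rcases (by decide +kernel : ∀ p ∈ KM.S, p * p = 1 → p = 1 ∨ ∃ k, k * p * k⁻¹ = ⟬13⟭ ∨ k * p * k⁻¹ = ⟬181⟭) p hp
    (h.inj (by rw [map_mul, ← e, conj_mul, conj_mul, h.uu]; simp)) with rfl | ⟨k, e | e⟩
  · rw [map_one, isConj_one_left] at c
    exact absurd (h.uz.uniq h.inj (c ▸ Cj.id)) (by decide +kernel)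
  · exact h.uf (c.trans ((Cj.of k p).cast rfl e).isConj)
  · exact h.uf ((c.trans ((Cj.of k p).cast rfl e).isConj).trans a.isConj)

theorem good : (κ ⟬13⟭ * u) ^ 4 = 1 := by
  by_contra hc
  refine h.notF (h.resF le_rfl fun k hk e => ?_)
  rcases (by decide +kernel : ∀ k ∈ KM.F, k = 1 ∨ ∃ d ∈ [1, ⟬15⟭, ⟬24⟭], d ∈ KM.D ∧ d * k * d⁻¹ = ⟬13⟭) k hk with rfl | ⟨d, -, hd, c⟩
  · simp
  obtain ⟨q, h1, h2, -⟩ := h.uD hd
  have := resOf_le _ (conj_mem_of_mem_normalizer (nR ((by decide +kernel : ∀ q ∈ KM.D, ∀ p ∈ KM.F,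
    q * p * q⁻¹ ∈ KM.F) q h1)) e) _ (mem_map_of_mem κ (show ⟬13⟭ ∈ _ by decide +kernel))
  rw [← h2, conj_inv (b := u), conj_mul, conj_mul, ← map_inv, ← map_mul, ← map_mul, c, h.ui] at this
  refine absurd ?_ hc
  calc _ = κ ⟬13⟭ * (u * κ ⟬13⟭ * u) * (κ ⟬13⟭ * u * κ ⟬13⟭ * u) := by simp only [pow_succ, pow_zero, one_mul, mul_assoc]
    _ = u * κ ⟬13⟭ * u * (κ ⟬13⟭ * κ ⟬13⟭) * (u * κ ⟬13⟭ * u) := by rw [this]; group
    _ = 1 := by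
      rw [← map_mul, show ⟬13⟭ * ⟬13⟭ = 1 by decide +kernel, map_one, mul_one, ← h.ui, h.ui]
      nth_rewrite 2 4 [← h.ui]
      rw [conj_mul, ← map_mul, show ⟬13⟭ * ⟬13⟭ = 1 by decide +kernel]; simp

end Cf

end Cfsg.Lib.A8L
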