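import Cfsg.Agent.Lib.A8L.Loc
import Cfsg.Agent.Lib.A8L.Ft
import Cfsg.Agent.Lib.X32.CaseA2

/-!
# Recognition of `A₈` from `3`-local data
-/

set_option maxRecDepth 100000
set_option synthInstance.maxSize 100000
set_option synthInstance.maxHeartbeats 200000
set_option Elab.async false

namespace Cfsg.Lib.A8L

open Subgroup Cfsg.Lib.X32 Cfsg.Lib.Transfer Cfsg.Lib.JR

universe u

local notation "⟪" n "⟫" => HA.el n
local notation "⟬" n "⟭" => KM.el n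

local instance : Fact (Nat.Prime 2) := ⟨Nat.prime_two⟩

variable {G : Type u} [Group G] [Finite G] {φ : HA →* G}

/-- The involutions not conjugate to the central one. -/
abbrev XA (h : HA) : Prop := HA.bm 0x824100002481000000000000000000004821000042804280 h

theorem sylA (hi : Function.Injective φ) (f5 : Fz φ ⟪16⟫ ⟪5⟫) (f11 : Fz φ ⟪16⟫ ⟪11⟫) (f32 : Fz φ ⟪16⟫ ⟪32⟫)
    (n30 : ¬ Fz φ ⟪16⟫ ⟪30⟫) (n48 : ¬ Fz φ ⟪16⟫ ⟪48⟫)
    (hc : ∀ g, Cj φ g ⟪14⟫ ⟪14⟫ → Cj φ g ⟪48⟫ ⟪48⟫ → (orderOf g).Coprime 3 → g ∈ HA.A.map φ) : SylowIn 2 (HA.T.map φ) ⊤ := by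
  have hX : ∀ p, p * p = 1 → p ≠ 1 → (XA p ↔ ¬ Fz φ ⟪16⟫ p) := fun p h1 h2 => by
    rcases (by decide +kernel : ∀ p : HA, p * p = 1 → p ≠ 1 → (¬ XA p ∧ ∃ k, ∃ q ∈ [⟪16⟫, ⟪5⟫, ⟪11⟫, ⟪32⟫], k * q * k⁻¹ = p) ∨
      (XA p ∧ ∃ k, ∃ q ∈ [⟪30⟫, ⟪48⟫], k * q * k⁻¹ = p)) p h1 h2 with ⟨e, k, q, hq, rfl⟩ | ⟨e, k, q, hq, rfl⟩ <;>
      simp only [List.mem_cons, List.not_mem_nil, or_false] at hq
    · refine iff_of_false e (not_not.2 (Fz.conj ?_ k))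
      rcases hq with rfl | rfl | rfl | rfl
      exacts [.refl, f5, f11, f32]
    · refine iff_of_true e fun c => ?_
      rcases hq with rfl | rfl
      exacts [n30 c.of_conj, n48 c.of_conj]
  refine syl_of (pgrp (by decide +kernel)) le_top fun n _ h2 h3 => ?_
  have k : ∀ {p q}, Cj φ n p q → (p * p = 1 ∧ p ≠ 1) → (XA q ↔ XA p) := fun {p q} c e => by
    rw [hX p e.1 e.2, hX q ((c.mul c).uniq hi (Cj.one.cast e.1.symm rfl)) fun e' => e.2 ((e' ▸ c).symm.uniq hi .one)]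
    exact not_congr ⟨fun a => a.cj c.symm, fun a => a.cj c⟩
  obtain ⟨c, c1, c2⟩ := ncj h2 (p := ⟪16⟫) (by decide +kernel)
  obtain rfl := (by decide +kernel : ∀ c ∈ HA.T, c ≠ 1 → (∀ a ∈ HA.T, a * c = c * a) → c = ⟪16⟫) c c1
    (fun e => absurd ((e ▸ c2).symm.uniq hi .one) (by decide +kernel)) fun a ha => by
      obtain ⟨b, b1, b2⟩ := ncj (inv_mem h2) ha
      have b3 := b2.symm.cast' (inv_inv n)
      exact (b3.mul c2).uniq hi ((c2.mul b3).cast ((by decide +kernel : ∀ b, ⟪16⟫ * b = b * ⟪16⟫) b) rfl)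
  obtain ⟨q1, a1, b1⟩ := ncj h2 (p := ⟪14⟫) (by decide +kernel)
  obtain ⟨q2, a2, b2⟩ := ncj h2 (p := ⟪48⟫) (by decide +kernel)
  obtain ⟨q4, a4, b4⟩ := ncj h2 (p := ⟪53⟫) (by decide +kernel)
  obtain ⟨t, t1, t2, t3⟩ := (by decide +kernel : ∀ q1 ∈ HA.T, XA q1 → XA (q1 * ⟪16⟫) → ∀ q2 ∈ HA.T, XA q2 → XA (q1 * q2) →
      ∀ q4 ∈ HA.T, XA q4 → XA (q1 * ⟪16⟫ * q4) → ¬ XA (q2 * q4) → ¬ XA (q1 * q4) → q1 * q4 = q4 * q1 → q2 * q4 = q4 * q2 →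
      ∃ t ∈ HA.T, t * q1 * t⁻¹ = ⟪14⟫ ∧ t * q2 * t⁻¹ = ⟪48⟫) q1 a1 ((k b1 (by decide +kernel)).2 (by decide +kernel))
    ((k (b1.mul c2) (by decide +kernel)).2 (by decide +kernel)) q2 a2 ((k b2 (by decide +kernel)).2 (by decide +kernel))
    ((k (b1.mul b2) (by decide +kernel)).2 (by decide +kernel)) q4 a4 ((k b4 (by decide +kernel)).2 (by decide +kernel))
    ((k ((b1.mul c2).mul b4) (by decide +kernel)).2 (by decide +kernel))
    (mt (k (b2.mul b4) (by decide +kernel)).1 (by decide +kernel)) (mt (k (b1.mul b4) (by decide +kernel)).1 (by decide +kernel))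
    ((b1.mul b4).uniq hi ((b4.mul b1).cast (by decide +kernel) rfl)) ((b2.mul b4).uniq hi ((b4.mul b2).cast (by decide +kernel) rfl))
  obtain ⟨j, hj⟩ := h3 _ (mem_map_of_mem φ t1)
  exact (mul_mem_cancel_left (mem_map_of_mem φ t1)).1 (map_mono (by decide +kernel : ∀ p ∈ HA.A, p ∈ HA.T)
    (hc _ ((b1.comp (.of t _)).cast rfl t2) ((b2.comp (.of t _)).cast rfl t3) (cop hj (by decide))))

theorem suA (hi : Function.Injective φ) (hT : SylowIn 2 (HA.T.map φ) ⊤)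
    (hc : ∀ g, Cj φ g ⟪14⟫ ⟪14⟫ → Cj φ g ⟪48⟫ ⟪48⟫ → (orderOf g).Coprime 3 → g ∈ HA.A.map φ)
    (hy : ∀ g, Cj φ g ⟪16⟫ ⟪16⟫ → Cj φ g ⟪64⟫ ⟪64⟫ → ∃ k : ℤ, g * φ ⟪64⟫ ^ k ∈ zpowers (φ ⟪16⟫)) : Su φ ⟪16⟫ := by
  have zc : ∀ h : HA, h * ⟪16⟫ = ⟪16⟫ * h := by decide +kernel
  have mL : ∀ h, φ h ∈ centralizer {φ ⟪16⟫} := fun h => mem_cen (zc h)
  have zz : φ ⟪16⟫ ^ 2 = 1 := by rw [← map_pow, show ⟪16⟫ ^ 2 = 1 by decide +kernel, map_one]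
  have TL : HA.T.map φ ≤ centralizer {φ ⟪16⟫} := by rintro _ ⟨h, -, rfl⟩; exact mL h
  have hT' := hT.mono TL le_top
  have cT : Nat.card (HA.T.map φ) = 64 := by rw [card_map_of_injective hi, card_sg]; decide +kernel
  have cL := card_mul_relIndex TL
  let Q : Subgroup HA := sg (fun h => h.1 < 32) (by decide +kernel)
  have cQ : Nat.card (Q.map φ) = 32 := by rw [card_map_of_injective hi, card_sg]; decide +kernel
  refine ⟨hi, fun g hg => ?_, zc, by decide +kernel, by decide +kernel⟩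
  rcases ft3g (L := centralizer {φ ⟪16⟫}) (c := φ ⟪64⟫) (pzp zz) (zpowers_le.2 (mL _))
    (by rintro _ ⟨k, rfl⟩ g hg; exact (Commute.zpow_right (mem_centralizer_singleton_iff.1 hg) k).eq)
    (by rw [← map_mul, ← map_mul, ← map_one φ]; exact congrArg φ (by decide +kernel))
    (fun e => absurd (hi (e.trans (map_one φ).symm)) (by decide +kernel)) (mL _)
    (fun g h1 h2 => hy g (.of_comm (mem_centralizer_singleton_iff.1 h1)) (.of_comm h2)) with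
    ⟨P, PL, W, WL, hP, W2, W3, PW, nP, nW, -, c, cm⟩ | ⟨π, hπ, sπ⟩ | c
  · have oW : ∀ w ∈ W, w ^ 6 = 1 → w = 1 := fun w hw e => orderOf_eq_one_iff.1 (Nat.eq_one_of_dvd_coprimes (W2.mul_right W3)
      (orderOf_dvd_natCard _ hw) (orderOf_dvd_of_pow_eq_one e))
    have i1 := Invol.inverts_of_fpf (u := φ ⟪48⟫) (by rw [← map_mul, ← map_one φ]; exact congrArg φ (by decide +kernel))
      (nW (le_normalizer (mL _))) fun w hw e => by
        have := PW (cm _ (mL ⟪2⟫) _ (mL ⟪32⟫) (by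
          rw [← map_inv, ← map_inv, ← map_mul, ← map_mul, ← map_mul, ← map_pow, ← map_one φ]
          exact congrArg φ (by decide +kernel))) w hw
        rw [← map_inv, ← map_inv, ← map_mul, ← map_mul, ← map_mul, show ⟪2⟫ * ⟪32⟫ * ⟪2⟫⁻¹ * ⟪32⟫⁻¹ = ⟪14⟫ by decide +kernel] at this
        obtain ⟨a, ha, rfl⟩ := hc w (.of_comm this) (.of_comm e) (W3.coprime_dvd_left (orderOf_dvd_natCard _ hw))
        exact oW _ hw (by rw [← map_pow, (by decide +kernel : ∀ a ∈ HA.A, a ^ 6 = 1) a ha, map_one])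
    have : W = ⊥ := eq_bot_iff.2 fun w hw => mem_bot.2 (oW w hw (by
      have c : Cj φ w ⟪64⟫ ⟪64⟫ := .of_comm (Eq.symm (mul_inv_eq_iff_eq_mul.1 (by
        have a := i1 _ (conj_mem_of_mem_normalizer (inv_mem (nW (le_normalizer (mL ⟪64⟫)))) hw)
        have b := i1 _ (inv_mem hw)
        rw [show ⟪64⟫ = ⟪48⟫ * ⟪64⟫ * ⟪48⟫ * ⟪64⟫⁻¹ by decide +kernel, map_mul, map_mul, map_mul, map_inv]
        calc _ = φ ⟪48⟫ * (φ ⟪64⟫ * (φ ⟪48⟫ * ((φ ⟪64⟫)⁻¹ * w * (φ ⟪64⟫)⁻¹⁻¹) * (φ ⟪48⟫)⁻¹) * (φ ⟪64⟫)⁻¹) * (φ ⟪48⟫)⁻¹ := by group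
          _ = φ ⟪48⟫ * w⁻¹ * (φ ⟪48⟫)⁻¹ := by rw [a]; group
          _ = w := by rw [b, inv_inv])))
      obtain ⟨k, j, hk⟩ := hy w (.of_comm (mem_centralizer_singleton_iff.1 (WL hw))) c
      have e : w = φ (⟪16⟫ ^ j * ⟪64⟫ ^ (-k)) := by rw [map_mul, map_zpow, map_zpow, show φ ⟪16⟫ ^ j = _ from hk]; group
      rw [e, ← map_pow, (Commute.zpow_zpow (zc _).symm _ _).mul_pow, ← zpow_natCast, ← zpow_natCast, ← zpow_mul, ← zpow_mul,
        mul_comm j, mul_comm (-k), zpow_mul, zpow_mul, zpow_natCast, zpow_natCast, show ⟪16⟫ ^ 6 = 1 by decide +kernel,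
        show ⟪64⟫ ^ 6 = 1 by decide +kernel]
      simp))
    have PT := hT'.le_of_le_normalizer hP PL (TL.trans (le_normalizer.trans nP))
    have PQ : P ≤ Q.map φ := fun x hx => by
      obtain ⟨a, ha, rfl⟩ := PT hx
      obtain ⟨b, hb, e⟩ := PT (conj_mem_of_mem_normalizer (nP (le_normalizer (mL ⟪64⟫))) hx)
      exact mem_map_of_mem φ ((by decide +kernel : ∀ a ∈ HA.T, ⟪64⟫ * a * ⟪64⟫⁻¹ ∈ HA.T → a ∈ Q) a ha
        ((Cj.of ⟪64⟫ a).uniq hi e.symm ▸ hb))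
    rw [this, sup_bot_eq] at c
    have := card_le_of_le PQ
    exact (eq_of_le_of_card_ge (show φ.range ≤ _ by rintro _ ⟨h, rfl⟩; exact mL h) (by
      rw [← Nat.card_congr (MonoidHom.ofInjective hi).toEquiv, HA.card]; omega)).ge (mem_centralizer_singleton_iff.2 hg)
  · let ρ := π.comp (φ.codRestrict _ mL)
    have k : ∀ a ∈ Q, ρ a = 1 := fun a ha => by
      have e := (by decide +kernel : ∀ a ∈ Q, a ^ 4 = 1 ∧ (a * (⟪64⟫ * a * ⟪64⟫⁻¹)) ^ 4 = 1 ∧ (a * (⟪32⟫ * a * ⟪32⟫)) ^ 4 = 1) a ha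
      refine (by decide +kernel : ∀ x : A60, x * x * x = 1 → x ≠ 1 → ∀ t : A60, t * t = 1 → t * x * (t * x) = 1 → ∀ a : A60, a ^ 4 = 1 →
        (a * (x * a * x⁻¹)) ^ 4 = 1 → (a * (t * a * t)) ^ 4 = 1 → a = 1) (ρ ⟪64⟫) ?_ (fun e => ?_) (ρ ⟪32⟫) ?_ ?_ _ ?_ ?_ ?_
      rotate_left
      · obtain ⟨j, hj⟩ := hπ ⟨_, e⟩
        have := (cop (q := 3) (hi ((map_pow φ ⟪64⟫ _).trans ((congrArg (·.1.1) hj).trans (map_one φ).symm))) (by decide)).eq_one_of_dvd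
          (orderOf_dvd_of_pow_eq_one (by decide +kernel))
        exact absurd (orderOf_eq_one_iff.1 this) (by decide +kernel)
      all_goals simp only [← map_mul, ← map_inv, ← map_pow, e, map_one]
      all_goals rw [← map_one ρ]; exact congrArg ρ (by decide +kernel)
    have d : 32 ∣ Nat.card π.ker := by
      rw [← cQ, ← card_map_of_injective (K := π.ker) (subtype_injective _)]
      exact card_dvd_of_le (by rintro _ ⟨a, ha, rfl⟩; exact ⟨⟨_, mL a⟩, k a ha, rfl⟩)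
    rw [← card_mul_index π.ker, index_ker, MonoidHom.range_eq_top.2 sπ, card_top, A60.card, cT] at cL
    exact (hT'.3 (by omega)).elim
  · have : Nat.card (zpowers (φ ⟪16⟫)) ≤ 2 := by
      rw [Nat.card_zpowers]; exact Nat.le_of_dvd two_pos (orderOf_dvd_of_pow_eq_one zz)
    have := Nat.card_pos (α := zpowers (φ ⟪16⟫))
    rw [cT] at cL
    omega

theorem Cf.main {κ : KM →* G} {u : G} (h : Cf κ u) :
    Nonempty (G ≃* alternatingGroup (Fin 8)) ∨ Nonempty (G ≃* alternatingGroup (Fin 9)) := by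
  obtain ⟨φ, e16, e64, f5, f11, f32, g, e48, e14, e53, e30⟩ := h.emb h.good
  have hi : Function.Injective φ := HA.inj (e16 ▸ fun e => absurd (h.uz.uniq h.inj (e ▸ Cj.id)) (by decide +kernel))
  have hc : ∀ n, Cj φ n ⟪14⟫ ⟪14⟫ → Cj φ n ⟪48⟫ ⟪48⟫ → (orderOf n).Coprime 3 → n ∈ HA.A.map φ := fun n h1 h2 h3 => by
    have k : ∀ {p : HA} {q : KM}, Cj φ n p p → φ p = g * κ q * g⁻¹ → Cj κ (g⁻¹ * n * g⁻¹⁻¹) q q := fun {p q} c e => by
      unfold Cj at *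
      rw [e] at c
      calc _ = g⁻¹ * (n * (g * κ q * g⁻¹) * n⁻¹) * g := by group
        _ = _ := by rw [c]; group
    have m : ∀ {x : G} {p q : HA}, (p ∈ HA.A ∧ q ∈ HA.A) → φ p = x * κ ⟬13⟭ * x⁻¹ → φ q = x * κ ⟬30⟭ * x⁻¹ →
        ∀ k ∈ KM.F, x * κ k * x⁻¹ ∈ HA.A.map φ := fun c a b k hk => by
      rcases (by decide +kernel : ∀ p ∈ KM.F, p = 1 ∨ p = ⟬13⟭ ∨ p = ⟬30⟭ ∨ p = ⟬13⟭ * ⟬30⟭) k hk with rfl | rfl | rfl | rfl
      exacts [by simp, ⟨_, c.1, a⟩, ⟨_, c.2, b⟩, ⟨_, mul_mem c.1 c.2, by rw [map_mul, a, b, conj_mul, map_mul]⟩]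
    have := h.resF (B := cj g⁻¹ (HA.A.map φ)) (by
      rintro _ ⟨k, hk, rfl⟩
      exact mem_cj.2 (by simpa using m (by decide +kernel) e48 e14 k hk))
      (fun k hk _ => mem_cj.2 (by simpa [mul_assoc] using m (by decide +kernel) e53 e30 k hk))
      (mem_resOf (mem_CF (k h2 e48) (k h1 e14)) (by rwa [← MulAut.conj_apply, MulEquiv.orderOf_eq]))
    exact conj_mem_cj.1 this
  have nf : ∀ {p : HA} {x : G} {q : KM}, φ p = x * κ q * x⁻¹ → (∃ k, k * q * k⁻¹ = ⟬13⟭) → ¬ Fz φ ⟪16⟫ p := by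
    rintro p x q e ⟨k, hk⟩ c
    exact h.uf (((show IsConj u (φ p) from e16 ▸ c).trans (isConj_iff.2 ⟨x, e.symm⟩).symm).trans ((Cj.of k q).cast rfl hk).isConj)
  refine HA.two (suA hi (sylA hi f5 f11 f32 (nf e30 (by decide +kernel)) (nf e48 (by decide +kernel)) hc) hc
    fun n h1 h2 => ?_) f5 f11
  have k : ∀ d ∈ KM.D, κ d * u = u * κ d → ∃ k : ℤ, κ d * κ ⟬75⟭ ^ k = 1 := fun d hd e => by
    obtain ⟨q, -, e1, e2⟩ := h.uD hd
    rcases e2 ((Cj.of_comm e.symm).uniq h.inj e1) with rfl | rfl | rfl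
    exacts [⟨0, by simp⟩, ⟨-1, by simp⟩, ⟨1, by simp⟩]
  have c := h1.comm
  have y : u * κ ⟬75⟭ = κ ⟬75⟭ * u := ((h.uz.mul h.uz').cast (by decide +kernel) (by decide +kernel)).comm
  have c' := h2.comm
  rw [e16] at c ⊢
  rw [e64] at c' ⊢
  obtain ⟨d, hd, rfl | rfl⟩ := h.hy n c'
  · obtain ⟨j, hj⟩ := k d hd c
    exact ⟨j, hj ▸ one_mem _⟩
  · obtain ⟨j, hj⟩ := k d hd (mul_right_cancel (b := u) (by rw [c, mul_assoc]))
    exact ⟨j, by rw [mul_assoc, (Commute.zpow_right y j).eq, ← mul_assoc, hj, one_mul]; exact mem_zpowers u⟩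

end Cfsg.Lib.A8L
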